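import Groth.Agent.RedQuotLib.Sub
import Groth.Agent.Comodule.ReynoldsOp

/-!
# Invariant functions commute with base change for linearly reductive groups
-/

set_option autoImplicit false
set_option backward.isDefEq.respectTransparency false
set_option backward.isDefEq.respectTransparency.types false

noncomputable section

universe u

open CategoryTheory MonoidalCategory CartesianMonoidalCategory MonObj AlgebraicGeometry
open scoped TensorProduct

namespace Groth.Agent.RedQuot

variable {k : Type u} [Field k] {A : Type u} [CommRing A] [HopfAlgebra k A]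

section Alg

variable {B : Type u} [CommRing B] [Algebra k B] [HopfRep.Comod k A B] [GLin.IsCoactAlg k A B]

/-- Averaging is linear over the invariants. -/
theorem avg_mul (l : A →ₗ[k] k) (c : B) (hc : c ∈ GLin.invariants k A B) (v : B) :
    Comodule.ReynoldsOp.avg l (c * v) = c * Comodule.ReynoldsOp.avg l v := by
  have hu : Hoch.IsComodHom A (LinearMap.mulLeft k c) := by
    refine LinearMap.ext fun w => ?_
    simp only [LinearMap.comp_apply, LinearMap.mulLeft_apply]
    rw [GLin.IsCoactAlg.coact_mul, (GLin.mem_invariants_iff _ _ _ _).1 hc]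
    induction HopfRep.Comod.coact (k := k) (A := A) w with
    | zero => simp
    | add p q hp hq => simp only [mul_add, map_add, hp, hq]
    | tmul p q => simp
  exact (Comodule.ReynoldsOp.avg_natural l _ hu v).symm

end Alg

attribute [local instance] coordAlg

variable {G X Y X' Y' : Over (Spec (CommRingCat.of k))} [GrpObj G] [IsAffine X.left] [IsAffine Y.left]
  [IsAffine X'.left] [IsAffine Y'.left]

/-- The invariant functions on a base change are the functions of the base. -/
theorem functions_baseChange (hA : HopfRep.IsLinearlyReductive k A) (e : CoactBr.sp k A ≅ G) [IsMonHom e.hom]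
    (a : AlgGrp.Action G X) (φ : X ⟶ Y) (hinj : Function.Injective φ.left.appTop)
    (hrange : Set.range φ.left.appTop = {f : Γ(X.left, ⊤) | a.act.left.appTop f = (snd G X).left.appTop f})
    {pr : X' ⟶ X} {φ' : X' ⟶ Y'} {g : Y' ⟶ Y} (sq : IsPullback pr φ' φ g) (a' : AlgGrp.Action G X')
    (ha : a'.act ≫ pr = (G ◁ pr) ≫ a.act) (hi : GIT.IsInvariant a' φ') :
    Function.Injective φ'.left.appTop ∧
      Set.range φ'.left.appTop = {f : Γ(X'.left, ⊤) | a'.act.left.appTop f = (snd G X').left.appTop f} := by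
  obtain ⟨cX, hcX, hco⟩ := exists_coaction e a
  obtain ⟨cX', hcX', hco'⟩ := exists_coaction e a'
  obtain ⟨l, h1, -, hfix, -⟩ := Comodule.ReynoldsOp.avg_mem (V := Γ(X.left, ⊤)) hA
  have hp := isComodHom_coordMap hco hco' ha
  have sqT : IsPushout g.left.appTop φ.left.appTop φ'.left.appTop pr.left.appTop :=
    (isPushout_appTop_of_isPullback
      (show IsPullback pr.left φ'.left φ.left g.left from sq.map (Over.forget _))).flip
  have hw : ∀ c, pr.left.appTop (φ.left.appTop c) = φ'.left.appTop (g.left.appTop c) := fun c =>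
    (congr($(sqT.w) c)).symm
  letI : Algebra Γ(Y.left, ⊤) Γ(X.left, ⊤) := φ.left.appTop.hom.toAlgebra
  letI : Algebra Γ(Y.left, ⊤) Γ(Y'.left, ⊤) := g.left.appTop.hom.toAlgebra
  letI : Algebra Γ(X.left, ⊤) Γ(X'.left, ⊤) := pr.left.appTop.hom.toAlgebra
  letI : Algebra Γ(Y'.left, ⊤) Γ(X'.left, ⊤) := φ'.left.appTop.hom.toAlgebra
  letI : Algebra Γ(Y.left, ⊤) Γ(X'.left, ⊤) := (g.left.appTop ≫ φ'.left.appTop).hom.toAlgebra
  haveI : IsScalarTower Γ(Y.left, ⊤) Γ(Y'.left, ⊤) Γ(X'.left, ⊤) := IsScalarTower.of_algebraMap_eq fun _ => rfl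
  haveI : IsScalarTower Γ(Y.left, ⊤) Γ(X.left, ⊤) Γ(X'.left, ⊤) :=
    IsScalarTower.of_algebraMap_eq fun c => (hw c).symm
  have hP : Algebra.IsPushout Γ(Y.left, ⊤) Γ(Y'.left, ⊤) Γ(X.left, ⊤) Γ(X'.left, ⊤) :=
    CommRingCat.isPushout_iff_isPushout.1 sqT
  have hbc := hP.out
  have hC : ∀ r, ∃ c, φ.left.appTop c = Comodule.ReynoldsOp.avg l r := fun r =>
    (Set.ext_iff.1 hrange _).2 ((mem_invariants_iff_appTop e a hco _).2 (hfix r))
  choose rC hrC using hC
  have hCinv : ∀ c, φ.left.appTop c ∈ GLin.invariants k A Γ(X.left, ⊤) := fun c =>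
    (mem_invariants_iff_appTop e a hco _).1 ((Set.ext_iff.1 hrange _).1 ⟨c, rfl⟩)
  have hC'inv : ∀ c, φ'.left.appTop c ∈ GLin.invariants k A Γ(X'.left, ⊤) := fun c =>
    (mem_invariants_iff_appTop e a' hco' _).1 (by
      rw [← CommRingCat.comp_apply, ← CommRingCat.comp_apply, ← Scheme.Hom.comp_appTop, ← Scheme.Hom.comp_appTop,
        GIT.IsInvariant.left hi])
  let rL : Γ(X.left, ⊤) →ₗ[Γ(Y.left, ⊤)] Γ(Y.left, ⊤) :=
    { toFun := rC
      map_add' := fun x y => hinj (by rw [hrC, map_add, map_add, hrC, hrC])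
      map_smul' := fun c x => hinj (by
        rw [hrC, RingHom.id_apply, smul_eq_mul, map_mul, hrC, Algebra.smul_def]
        exact avg_mul l _ (hCinv c) x) }
  let L : Γ(X'.left, ⊤) →ₗ[Γ(Y'.left, ⊤)] Γ(Y'.left, ⊤) :=
    hbc.lift ((Algebra.linearMap Γ(Y.left, ⊤) Γ(Y'.left, ⊤)).comp rL)
  have hrC1 : rC 1 = 1 := hinj (by
    rw [hrC, Comodule.ReynoldsOp.avg_fixed l h1 (v := (1 : Γ(X.left, ⊤)))
      (GLin.invariants k A Γ(X.left, ⊤)).one_mem, map_one])
  have hL : ∀ c, L (φ'.left.appTop c) = c := by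
    intro c
    have h0 : φ'.left.appTop c = c • (IsScalarTower.toAlgHom Γ(Y.left, ⊤) Γ(X.left, ⊤) Γ(X'.left, ⊤)).toLinearMap 1 := by
      rw [Algebra.smul_def, AlgHom.toLinearMap_apply, map_one, _root_.mul_one]
      rfl
    rw [h0, map_smul]
    show c • (hbc.lift _) _ = c
    rw [hbc.lift_eq, LinearMap.comp_apply]
    show c * algebraMap Γ(Y.left, ⊤) Γ(Y'.left, ⊤) (rC 1) = c
    rw [hrC1, map_one, _root_.mul_one]
  refine ⟨Function.LeftInverse.injective hL, Set.Subset.antisymm ?_ fun f hf => ?_⟩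
  · rintro _ ⟨c, rfl⟩
    exact (mem_invariants_iff_appTop e a' hco' _).2 (hC'inv c)
  · have key : ∀ x : Γ(X'.left, ⊤), Comodule.ReynoldsOp.avg l x ∈ Set.range φ'.left.appTop := by
      intro x
      induction x using hbc.inductionOn with
      | zero => exact ⟨0, by rw [map_zero, map_zero]⟩
      | tmul r =>
        refine ⟨g.left.appTop (rC r), ?_⟩
        rw [← hw, hrC]
        exact Comodule.ReynoldsOp.avg_natural l (coordMap pr).toLinearMap hp r
      | smul s n hn =>
        obtain ⟨c, hc⟩ := hn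
        refine ⟨s * c, ?_⟩
        rw [map_mul, hc]
        exact (avg_mul l _ (hC'inv s) n).symm
      | add n₁ n₂ h₁ h₂ =>
        obtain ⟨c₁, hc₁⟩ := h₁
        obtain ⟨c₂, hc₂⟩ := h₂
        exact ⟨c₁ + c₂, by rw [map_add, map_add, hc₁, hc₂]⟩
    rw [← Comodule.ReynoldsOp.avg_fixed l h1 (v := f) ((mem_invariants_iff_appTop e a' hco' f).1 hf)]
    exact key f

end Groth.Agent.RedQuot
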