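import Groth.Agent.RedQuotLib.Sub
import Groth.Agent.LieRedLib.Main
import Groth.Agent.TorusField.Bridge

/-!
# Coordinates of a reductive group in characteristic zero
-/

set_option autoImplicit false
set_option backward.isDefEq.respectTransparency false
set_option backward.isDefEq.respectTransparency.types false

noncomputable section

universe u

open CategoryTheory MonoidalCategory CartesianMonoidalCategory MonObj AlgebraicGeometry

namespace Groth.Agent.RedQuot

/-- Reductivity is invariant under isomorphisms of groups. -/
theorem isReductive_of_iso {S : Scheme.{u}} {G H : Over S} [GrpObj G] [GrpObj H] (e : Grp.mk G ≅ Grp.mk H)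
    (h : Red.IsReductive G) : Red.IsReductive H := by
  obtain ⟨ha, hs, hf⟩ := h
  let e' : G ≅ H := (Grp.forget _).mapIso e
  haveI : IsIso e'.inv.left := ((Over.forget _).mapIso e').isIso_inv
  haveI := ha
  haveI := hs
  refine ⟨?_, ?_, fun s => ?_⟩
  · rw [← Over.w e'.inv]; infer_instance
  · rw [← Over.w e'.inv]; infer_instance
  · let f := TorusField.bcMapIso (Red.geomPt s) e
    let f' : Red.bc (Red.geomPt s) G ≅ Red.bc (Red.geomPt s) H := (Grp.forget _).mapIso f
    haveI : IsMonHom f'.hom := f.hom.hom.isMonHom_hom
    exact LieRed.isReductiveOver_of_iso f' (hf s)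

variable {k : Type u} [Field k]

/-- A reductive group over a field of characteristic zero is `Spec` of a linearly reductive Hopf algebra of finite type. -/
theorem exists_linRed [CharZero k] (G : Over (Spec (CommRingCat.of k))) [GrpObj G] (hG : Red.IsReductive G) :
    ∃ (A : Type u) (_ : CommRing A) (_ : HopfAlgebra k A) (e : CoactBr.sp k A ≅ G) (_ : IsMonHom e.hom),
      Algebra.FiniteType k A ∧ HopfRep.IsLinearlyReductive k A := by
  haveI := hG.1
  haveI : IsAffine G.left := isAffine_of_isAffineHom G.hom
  obtain ⟨A, _, _, ⟨i⟩⟩ := TorusField.exists_hopf k G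
  let e : CoactBr.sp k A ≅ G := (Grp.forget _).mapIso i
  have he : IsMonHom e.hom := i.hom.hom.isMonHom_hom
  have hA : Red.IsReductive (CoactBr.sp k A) := isReductive_of_iso i.symm hG
  haveI : Algebra.FiniteType k A := by
    haveI := hA.2.1
    have h : AlgebraicGeometry.LocallyOfFiniteType
        ((Spec (CommRingCat.of A)).asOver (Spec (CommRingCat.of k))).hom := inferInstance
    exact RingHom.finiteType_algebraMap.mp
      ((HasRingHomProperty.Spec_iff (P := @LocallyOfFiniteType)).mp h)
  exact ⟨A, inferInstance, inferInstance, e, he, inferInstance, LieRed.isLinearlyReductive_of_isReductive hA⟩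

end Groth.Agent.RedQuot
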