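import Groth.Agent.RedQuotLib.Global
import Groth.Agent.RedQuotLib.Setup
import Groth.Agent.Comodule.HilbertFG

/-!
# Existence of the affine quotient
-/

set_option autoImplicit false
set_option backward.isDefEq.respectTransparency false
set_option backward.isDefEq.respectTransparency.types false

noncomputable section

universe u

open CategoryTheory MonoidalCategory CartesianMonoidalCategory MonObj AlgebraicGeometry

namespace Groth.Agent.RedQuot

attribute [local instance] coordAlg

variable {k : Type u} [Field k]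

/-- The affine quotient. -/
theorem exists_quotient {A : Type u} [CommRing A] [HopfAlgebra k A] (hA : HopfRep.IsLinearlyReductive k A)
    {G X : Over (Spec (CommRingCat.of k))} [GrpObj G] (e : CoactBr.sp k A ≅ G) [IsMonHom e.hom] [IsAffine X.left]
    (a : AlgGrp.Action G X) :
    ∃ (Y : Over (Spec (CommRingCat.of k))) (φ : X ⟶ Y), IsAffine Y.left ∧
      Function.Injective φ.left.appTop ∧
      Set.range φ.left.appTop = {f : Γ(X.left, ⊤) | a.act.left.appTop f = (snd G X).left.appTop f} ∧
      GIT.IsInvariant a φ ∧ GIT.IsUnivCatQuot a φ ∧ GIT.IsUnivSubmersive φ.left ∧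
      (IsNoetherian X.left → IsNoetherian Y.left) ∧
      (LocallyOfFiniteType X.hom → LocallyOfFiniteType Y.hom) := by
  obtain ⟨cX, hcX, hco⟩ := exists_coaction e a
  let C := GLin.invariants k A Γ(X.left, ⊤)
  let φ : X ⟶ CoactBr.sp k C := (eX X).inv ≫ CoactBr.pt C.val
  have happ : φ.left.appTop = (Scheme.ΓSpecIso (CommRingCat.of C)).hom ≫ CommRingCat.ofHom C.val.toRingHom := by
    show (X.left.isoSpec.hom ≫ Spec.map (CommRingCat.ofHom C.val.toRingHom)).appTop = _
    rw [Scheme.Hom.comp_appTop]
    simp [Scheme.isoSpec]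
  have hbij : Function.Bijective (Scheme.ΓSpecIso (CommRingCat.of C)).hom :=
    ConcreteCategory.bijective_of_isIso _
  have hap : ∀ c, φ.left.appTop c = C.val ((Scheme.ΓSpecIso (CommRingCat.of C)).hom c) := fun c => by
    rw [happ]; rfl
  have hinj : Function.Injective φ.left.appTop := fun x y hxy =>
    hbij.1 (Subtype.val_injective (by rwa [hap, hap] at hxy))
  have hrange : Set.range φ.left.appTop = {f : Γ(X.left, ⊤) | a.act.left.appTop f = (snd G X).left.appTop f} := by
    ext f
    rw [Set.mem_setOf_eq, mem_invariants_iff_appTop e a hco]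
    constructor
    · rintro ⟨c, rfl⟩
      rw [hap]
      exact ((Scheme.ΓSpecIso (CommRingCat.of C)).hom c).2
    · intro hf
      obtain ⟨c, hc⟩ := hbij.2 ⟨f, hf⟩
      exact ⟨c, by rw [hap, hc]; rfl⟩
  have hinv : GIT.IsInvariant a φ := by
    refine Over.OverMorphism.ext ?_
    rw [Over.comp_left, Over.comp_left]
    haveI : IsAffine (CoactBr.sp k C).left := inferInstanceAs (IsAffine (Spec (CommRingCat.of C)))
    refine ext_of_isAffine ?_
    rw [Scheme.Hom.comp_appTop, Scheme.Hom.comp_appTop]
    exact CommRingCat.hom_ext (RingHom.ext fun c => (Set.ext_iff.1 hrange _).1 ⟨c, rfl⟩)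
  haveI : IsAffine (CoactBr.sp k C).left := inferInstanceAs (IsAffine (Spec (CommRingCat.of C)))
  obtain ⟨h1, h2⟩ := isUnivCatQuot_affine hA e a φ hinv hinj hrange
  refine ⟨_, φ, inferInstance, hinj, hrange, hinv, h1, h2, fun _ => ?_, fun hX => ?_⟩
  · haveI : IsNoetherianRing Γ(X.left, ⊤) := IsLocallyNoetherian.component_noetherian ⟨⊤, isAffineOpen_top X.left⟩
    haveI : IsNoetherianRing C := Comodule.InvFinite.isNoetherianRing_invariants hA
    exact inferInstanceAs (IsNoetherian (Spec (CommRingCat.of C)))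
  · haveI hft : Algebra.FiniteType k Γ(X.left, ⊤) := by
      have h := (HasRingHomProperty.iff_of_isAffine (P := @LocallyOfFiniteType)).1 hX
      exact h.comp (RingHom.FiniteType.of_surjective _
        (ConcreteCategory.bijective_of_isIso (Scheme.ΓSpecIso (CommRingCat.of k)).inv).2)
    let B₀ : Subalgebra k Γ(X.left, ⊤) := ⊥
    haveI : IsNoetherianRing B₀ :=
      isNoetherianRing_of_surjective k _ (algebraMap k B₀) fun x => by
        obtain ⟨c, hc⟩ := Algebra.mem_bot.1 x.2
        exact ⟨c, Subtype.ext hc⟩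
    haveI : Algebra.FiniteType B₀ Γ(X.left, ⊤) := Algebra.FiniteType.of_restrictScalars_finiteType k B₀ _
    have hB₀ : HopfRep.IsSubcomod (k := k) (A := A) (Subalgebra.toSubmodule B₀) := by
      intro x hx
      obtain ⟨c, rfl⟩ := Algebra.mem_bot.1 hx
      refine ⟨(⟨_, B₀.algebraMap_mem c⟩ : Subalgebra.toSubmodule B₀) ⊗ₜ (1 : A), ?_⟩
      rw [LinearMap.rTensor_tmul]
      exact ((GLin.mem_invariants_iff _ _ _ _).1 (C.algebraMap_mem c)).symm
    obtain ⟨s, -, heq⟩ := Comodule.HilbertFG.exists_finset_invariants_eq_adjoin hA B₀ hB₀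
    have hfg : C.FG := ⟨s, by
      refine le_antisymm ((Algebra.adjoin_mono Set.subset_union_right).trans heq.ge) (heq.le.trans (Algebra.adjoin_le ?_))
      rintro x (⟨hx, -⟩ | hx)
      · obtain ⟨c, rfl⟩ := Algebra.mem_bot.1 hx
        exact Subalgebra.algebraMap_mem _ c
      · exact Algebra.subset_adjoin hx⟩
    haveI : Algebra.FiniteType k C := ⟨(Subalgebra.fg_top C).2 hfg⟩
    show LocallyOfFiniteType (Spec.map (CommRingCat.ofHom (algebraMap k C)))
    exact (HasRingHomProperty.Spec_iff (P := @LocallyOfFiniteType)).2 (RingHom.finiteType_algebraMap.2 ‹_›)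

end Groth.Agent.RedQuot
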