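import Groth.Agent.RedQuotLib.BaseChange
import Groth.Agent.GitQuot.Univ

/-!
# The affine quotient of a linearly reductive group is a universal categorical quotient
-/

set_option autoImplicit false
set_option backward.isDefEq.respectTransparency false
set_option backward.isDefEq.respectTransparency.types false

noncomputable section

universe u

open CategoryTheory MonoidalCategory CartesianMonoidalCategory MonObj AlgebraicGeometry Topology Opposite
open TopologicalSpace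

namespace Groth.Agent.RedQuot

attribute [local instance] coordAlg

section Restrict

variable {S : Scheme.{u}} {G X Y : Over S} [GrpObj G]

/-- The part of `X` over an open of `Y`. -/
abbrev resX (φ : X ⟶ Y) (V : Y.left.Opens) : Over S := Over.mk ((φ.left ⁻¹ᵁ V).ι ≫ X.hom)

/-- An open of `Y` over the base. -/
abbrev resY (V : Y.left.Opens) : Over S := Over.mk (V.ι ≫ Y.hom)

/-- The inclusion. -/
abbrev resPr (φ : X ⟶ Y) (V : Y.left.Opens) : resX φ V ⟶ X := Over.homMk (φ.left ⁻¹ᵁ V).ι rfl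

/-- The inclusion. -/
abbrev resG (V : Y.left.Opens) : resY V ⟶ Y := Over.homMk V.ι rfl

/-- The restricted map. -/
abbrev resMap (φ : X ⟶ Y) (V : Y.left.Opens) : resX φ V ⟶ resY V := Over.homMk (φ.left ∣_ V) (by
  show φ.left ∣_ V ≫ V.ι ≫ Y.hom = (φ.left ⁻¹ᵁ V).ι ≫ X.hom
  rw [← Category.assoc, morphismRestrict_ι, Category.assoc, Over.w])

theorem isPullback_res (φ : X ⟶ Y) (V : Y.left.Opens) :
    IsPullback (resPr φ V) (resMap φ V) φ (resG V) :=
  IsPullback.of_map (Over.forget S) (Over.OverMorphism.ext (morphismRestrict_ι φ.left V).symm)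
    (isPullback_morphismRestrict φ.left V).flip

theorem appTop_eq_appLE {A B : Scheme.{u}} (f : A ⟶ B) : f.appTop = f.appLE ⊤ ⊤ le_rfl :=
  Scheme.Hom.app_eq_appLE f

theorem bijective_ι_appLE {Z : Scheme.{u}} (O : Z.Opens) :
    Function.Bijective (O.ι.appLE O ⊤ (Scheme.Opens.ι_preimage_self O).ge) := by
  haveI := O.ι.isIso_app O (Scheme.Opens.opensRange_ι O).ge
  exact (ConcreteCategory.bijective_of_isIso
    ((O.ι.app O) ≫ O.toScheme.presheaf.map (eqToHom (Scheme.Opens.ι_preimage_self O).symm).op))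

theorem ι_appLE_app (φ : X ⟶ Y) (V : Y.left.Opens) (s : Γ(Y.left, V)) :
    (φ.left ∣_ V).appTop (V.ι.appLE V ⊤ (Scheme.Opens.ι_preimage_self V).ge s) =
      (φ.left ⁻¹ᵁ V).ι.appLE _ ⊤ (Scheme.Opens.ι_preimage_self _).ge (φ.left.app V s) := by
  rw [appTop_eq_appLE, Scheme.Hom.app_eq_appLE, ← CommRingCat.comp_apply,
    ← CommRingCat.comp_apply, Scheme.Hom.appLE_comp_appLE, Scheme.Hom.appLE_comp_appLE]
  exact congr($(GitQuot.appLE_congr (morphismRestrict_ι φ.left V) _ _) s)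

/-- Restrictions of invariant sections are invariant. -/
theorem isInvSection_res (a : AlgGrp.Action G X) (φ : X ⟶ Y) {U V : Y.left.Opens} (h : V ≤ U)
    {f : Γ(X.left, φ.left ⁻¹ᵁ U)} (hf : GIT.IsInvSection a φ U f) :
    GIT.IsInvSection a φ V (X.left.presheaf.map (homOfLE (φ.left.preimage_mono h)).op f) := by
  have hle : a.act.left ⁻¹ᵁ (φ.left ⁻¹ᵁ V) ⊓ (snd G X).left ⁻¹ᵁ (φ.left ⁻¹ᵁ V) ≤
      a.act.left ⁻¹ᵁ (φ.left ⁻¹ᵁ U) ⊓ (snd G X).left ⁻¹ᵁ (φ.left ⁻¹ᵁ U) :=
    inf_le_inf (a.act.left.preimage_mono (φ.left.preimage_mono h))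
      ((snd G X).left.preimage_mono (φ.left.preimage_mono h))
  have key : ∀ (q : G ⊗ X ⟶ X) (h₁ : a.act.left ⁻¹ᵁ (φ.left ⁻¹ᵁ V) ⊓ (snd G X).left ⁻¹ᵁ (φ.left ⁻¹ᵁ V) ≤
        q.left ⁻¹ᵁ (φ.left ⁻¹ᵁ V)) (h₂ : a.act.left ⁻¹ᵁ (φ.left ⁻¹ᵁ U) ⊓ (snd G X).left ⁻¹ᵁ (φ.left ⁻¹ᵁ U) ≤
        q.left ⁻¹ᵁ (φ.left ⁻¹ᵁ U)),
      q.left.appLE _ _ h₁ (X.left.presheaf.map (homOfLE (φ.left.preimage_mono h)).op f) =
        (G ⊗ X).left.presheaf.map (homOfLE hle).op (q.left.appLE _ _ h₂ f) := by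
    intro q h₁ h₂
    rw [← CommRingCat.comp_apply, ← CommRingCat.comp_apply, Scheme.Hom.map_appLE, Scheme.Hom.appLE_map]
  exact (key a.act inf_le_left inf_le_left).trans
    ((congrArg _ hf).trans (key (snd G X) inf_le_right inf_le_right).symm)

/-- An invariant section is an invariant function on the open it lives on. -/
theorem invariant_res (a : AlgGrp.Action G X) (φ : X ⟶ Y) (V : Y.left.Opens)
    (a' : AlgGrp.Action G (resX φ V)) (ha' : a'.act ≫ resPr φ V = (G ◁ resPr φ V) ≫ a.act)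
    {f : Γ(X.left, φ.left ⁻¹ᵁ V)} (hf : GIT.IsInvSection a φ V f) :
    a'.act.left.appTop ((φ.left ⁻¹ᵁ V).ι.appLE _ ⊤ (Scheme.Opens.ι_preimage_self _).ge f) =
      (snd G (resX φ V)).left.appTop ((φ.left ⁻¹ᵁ V).ι.appLE _ ⊤ (Scheme.Opens.ι_preimage_self _).ge f) := by
  let O := φ.left ⁻¹ᵁ V
  let pr := resPr φ V
  have h1' : (G ◁ pr).left ≫ a.act.left = a'.act.left ≫ O.ι := (congrArg CommaMorphism.left ha').symm
  have h2' : (G ◁ pr).left ≫ (snd G X).left = (snd G (resX φ V)).left ≫ O.ι := by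
    rw [← Over.comp_left, whiskerLeft_snd]; rfl
  let P := a.act.left ⁻¹ᵁ O ⊓ (snd G X).left ⁻¹ᵁ O
  have hw : (⊤ : (G ⊗ resX φ V).left.Opens) ≤ (G ◁ pr).left ⁻¹ᵁ P := by
    intro z _
    refine ⟨?_, ?_⟩
    · show a.act.left ((G ◁ pr).left z) ∈ O
      rw [← Scheme.Hom.comp_apply, h1']; exact (a'.act.left z).2
    · show (snd G X).left ((G ◁ pr).left z) ∈ O
      rw [← Scheme.Hom.comp_apply, h2']; exact ((snd G (resX φ V)).left z).2
  have e1 : a'.act.left.appTop (O.ι.appLE O ⊤ (Scheme.Opens.ι_preimage_self O).ge f) =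
      (G ◁ pr).left.appLE P ⊤ hw (a.act.left.appLE O P inf_le_left f) := by
    rw [appTop_eq_appLE]
    refine (CommRingCat.comp_apply _ _ _).symm.trans (Eq.trans ?_ (CommRingCat.comp_apply _ _ _))
    erw [Scheme.Hom.appLE_comp_appLE, Scheme.Hom.appLE_comp_appLE]
    exact congr($(GitQuot.appLE_congr h1'.symm _ _) f)
  have e2 : (snd G (resX φ V)).left.appTop (O.ι.appLE O ⊤ (Scheme.Opens.ι_preimage_self O).ge f) =
      (G ◁ pr).left.appLE P ⊤ hw ((snd G X).left.appLE O P inf_le_right f) := by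
    rw [appTop_eq_appLE]
    refine (CommRingCat.comp_apply _ _ _).symm.trans (Eq.trans ?_ (CommRingCat.comp_apply _ _ _))
    erw [Scheme.Hom.appLE_comp_appLE, Scheme.Hom.appLE_comp_appLE]
    exact congr($(GitQuot.appLE_congr h2'.symm _ _) f)
  exact e1.trans ((congrArg _ hf).trans e2.symm)

/-- Invariant sets pull back to invariant sets. -/
theorem invariant_preimage {X' : Over S} (a : AlgGrp.Action G X) (a' : AlgGrp.Action G X') (pr : X' ⟶ X)
    (ha : a'.act ≫ pr = (G ◁ pr) ≫ a.act) (W : Set X.left)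
    (hW : a.act.left.base '' ((snd G X).left.base ⁻¹' W) ⊆ W) :
    a'.act.left.base '' ((snd G X').left.base ⁻¹' (pr.left.base ⁻¹' W)) ⊆ pr.left.base ⁻¹' W := by
  rintro _ ⟨z, hz, rfl⟩
  show pr.left (a'.act.left z) ∈ W
  rw [← Scheme.Hom.comp_apply, ← Over.comp_left, ha, Over.comp_left, Scheme.Hom.comp_apply]
  refine hW ⟨(G ◁ pr).left z, ?_, rfl⟩
  show (snd G X).left ((G ◁ pr).left z) ∈ W
  rw [← Scheme.Hom.comp_apply, ← Over.comp_left, whiskerLeft_snd, Over.comp_left, Scheme.Hom.comp_apply]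
  exact hz

theorem image_res (φ : X ⟶ Y) (V : Y.left.Opens) (W : Set X.left) :
    (resG V).left.base ⁻¹' (φ.left.base '' W) =
      (resMap φ V).left.base '' ((resPr φ V).left.base ⁻¹' W) := by
  ext v
  constructor
  · rintro ⟨x, hx, hxv⟩
    have hxO : x ∈ φ.left ⁻¹ᵁ V := by
      show φ.left x ∈ V
      rw [show φ.left x = V.ι v from hxv]
      exact v.2
    refine ⟨⟨x, hxO⟩, hx, V.ι.isOpenEmbedding.injective ?_⟩
    change V.ι ((φ.left ∣_ V) ⟨x, hxO⟩) = V.ι v
    rw [← Scheme.Hom.comp_apply, morphismRestrict_ι, Scheme.Hom.comp_apply]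
    exact hxv
  · rintro ⟨z, hz, rfl⟩
    refine ⟨(φ.left ⁻¹ᵁ V).ι z, hz, ?_⟩
    show φ.left ((φ.left ⁻¹ᵁ V).ι z) = V.ι ((φ.left ∣_ V) z)
    rw [← Scheme.Hom.comp_apply, ← Scheme.Hom.comp_apply, morphismRestrict_ι]

end Restrict

section

variable {k : Type u} [Field k] {A : Type u} [CommRing A] [HopfAlgebra k A]
variable {G X Y : Over (Spec (CommRingCat.of k))} [GrpObj G] [IsAffine X.left] [IsAffine Y.left]

/-- What an affine piece of a base change of the affine quotient knows. -/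
theorem affine_piece (hA : HopfRep.IsLinearlyReductive k A) (e : CoactBr.sp k A ≅ G) [IsMonHom e.hom]
    (a : AlgGrp.Action G X) (φ : X ⟶ Y) (hinj : Function.Injective φ.left.appTop)
    (hrange : Set.range φ.left.appTop = {f : Γ(X.left, ⊤) | a.act.left.appTop f = (snd G X).left.appTop f})
    {X' Y' : Over (Spec (CommRingCat.of k))} {pr : X' ⟶ X} {φ' : X' ⟶ Y'} {g : Y' ⟶ Y}
    (sq : IsPullback pr φ' φ g) (a' : AlgGrp.Action G X') (ha : a'.act ≫ pr = (G ◁ pr) ≫ a.act)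
    (hi : GIT.IsInvariant a' φ') {V : Y'.left.Opens} (hV : IsAffineOpen V) :
    (Function.Injective (φ'.left.app V) ∧ {f | GIT.IsInvSection a' φ' V f} ⊆ Set.range (φ'.left.app V)) ∧
    (∀ W : Set X'.left, IsClosed W → a'.act.left.base '' ((snd G X').left.base ⁻¹' W) ⊆ W →
      IsClosed ((resG V).left.base ⁻¹' (φ'.left.base '' W))) ∧
    ∀ (J : Type u) (W : J → Set X'.left),
      (∀ i, IsClosed (W i) ∧ a'.act.left.base '' ((snd G X').left.base ⁻¹' W i) ⊆ W i) →
      (resG V).left.base ⁻¹' (φ'.left.base '' (⋂ i, W i)) = ⋂ i, (resG V).left.base ⁻¹' (φ'.left.base '' W i) := by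
  have sqL : IsPullback pr.left φ'.left φ.left g.left := sq.map (Over.forget _)
  haveI : IsAffineHom φ'.left := MorphismProperty.of_isPullback sqL (inferInstanceAs (IsAffineHom φ.left))
  haveI : IsAffine (resY V).left := hV
  haveI : IsAffine (resX φ' V).left := hV.preimage φ'.left
  obtain ⟨a'', ha'', hi''⟩ := GitQuot.exists_action a' hi (isPullback_res φ' V)
  have sq' := (isPullback_res φ' V).paste_horiz sq
  have ha3 : a''.act ≫ (resPr φ' V ≫ pr) = (G ◁ (resPr φ' V ≫ pr)) ≫ a.act := by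
    rw [← Category.assoc, ha'', Category.assoc, ha, MonoidalCategory.whiskerLeft_comp_assoc]
  obtain ⟨hinj', hrange'⟩ := functions_baseChange hA e a φ hinj hrange sq' a'' ha3 hi''
  obtain ⟨c, hc, hco⟩ := exists_coaction e a''
  obtain ⟨hcl, hinter⟩ := closed_images e a'' (resMap φ' V) hinj' hrange' hA hco
  refine ⟨⟨fun s t hst => ?_, fun f hf => ?_⟩, fun W hW hiW => ?_, fun J W hW => ?_⟩
  · refine (bijective_ι_appLE V).1 (hinj' ?_)
    show (φ'.left ∣_ V).appTop _ = (φ'.left ∣_ V).appTop _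
    rw [ι_appLE_app, ι_appLE_app, hst]
  · obtain ⟨s', hs'⟩ := (Set.ext_iff.1 hrange' _).2 (invariant_res a' φ' V a'' ha'' hf)
    obtain ⟨s, rfl⟩ := (bijective_ι_appLE V).2 s'
    refine ⟨s, (bijective_ι_appLE (φ'.left ⁻¹ᵁ V)).1 ?_⟩
    rw [← ι_appLE_app]
    exact hs'
  · rw [image_res]
    exact hcl _ (hW.preimage (resPr φ' V).left.continuous) (invariant_preimage a' a'' _ ha'' W hiW)
  · simp only [image_res, Set.preimage_iInter]
    exact hinter J _ fun i => ⟨(hW i).1.preimage (resPr φ' V).left.continuous,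
      invariant_preimage a' a'' _ ha'' (W i) (hW i).2⟩

end

/-- What a piece of a quotient knows. -/
def Piece {k : Type u} [Field k] {G X' Y' : Over (Spec (CommRingCat.of k))} [GrpObj G] (a' : AlgGrp.Action G X')
    (φ' : X' ⟶ Y') (V : Y'.left.Opens) : Prop :=
  (Function.Injective (φ'.left.app V) ∧ {f | GIT.IsInvSection a' φ' V f} ⊆ Set.range (φ'.left.app V)) ∧
    (∀ W : Set X'.left, IsClosed W → a'.act.left.base '' ((snd G X').left.base ⁻¹' W) ⊆ W →
      IsClosed ((resG V).left.base ⁻¹' (φ'.left.base '' W))) ∧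
    ∀ (J : Type u) (W : J → Set X'.left),
      (∀ i, IsClosed (W i) ∧ a'.act.left.base '' ((snd G X').left.base ⁻¹' W i) ⊆ W i) →
      (resG V).left.base ⁻¹' (φ'.left.base '' (⋂ i, W i)) = ⋂ i, (resG V).left.base ⁻¹' (φ'.left.base '' W i)

/-- An invariant map with a basis of good pieces is a categorical quotient and a quotient map. -/
theorem isCatQuot_of_pieces {k : Type u} [Field k] {G X' Y' : Over (Spec (CommRingCat.of k))} [GrpObj G]
    (a' : AlgGrp.Action G X') (φ' : X' ⟶ Y') (hi : GIT.IsInvariant a' φ')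
    (H : ∀ U : Y'.left.Opens, ∀ y ∈ U, ∃ V : Y'.left.Opens, IsAffineOpen V ∧ y ∈ V ∧ V ≤ U ∧ Piece a' φ' V) :
    GIT.IsCatQuot a' φ' ∧ IsQuotientMap φ'.left.base := by
  refine GitQuot.isCatQuot_of_closed_images a' φ' hi (fun U => ?_) (fun W hW hiW => ?_) fun J W hW => ?_
  · have hinjU : ∀ U : Y'.left.Opens, Function.Injective (φ'.left.app U) := fun U s t hst => by
      refine Y'.left.sheaf.eq_of_locally_eq' (fun V : {V : Y'.left.affineOpens // V.1 ≤ U ∧ Piece a' φ' V.1} => V.1.1) U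
        (fun V => homOfLE V.2.1) (fun y hy => ?_) s t fun V => V.2.2.1.1 ?_
      · obtain ⟨O, hO, hyO, hOU, hp⟩ := H U y hy
        exact Opens.mem_iSup.2 ⟨⟨⟨O, hO⟩, hOU, hp⟩, hyO⟩
      · change φ'.left.app V.1.1 (Y'.left.presheaf.map _ s) = φ'.left.app V.1.1 (Y'.left.presheaf.map _ t)
        rw [← CommRingCat.comp_apply, ← CommRingCat.comp_apply, φ'.left.naturality, CommRingCat.comp_apply,
          CommRingCat.comp_apply, hst]
    refine ⟨hinjU U, Set.Subset.antisymm ?_ fun f hf => ?_⟩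
    · rintro _ ⟨s, rfl⟩
      show a'.act.left.appLE _ _ _ (φ'.left.app U s) = (snd G X').left.appLE _ _ _ (φ'.left.app U s)
      rw [Scheme.Hom.app_eq_appLE, ← CommRingCat.comp_apply, ← CommRingCat.comp_apply, Scheme.Hom.appLE_comp_appLE,
        Scheme.Hom.appLE_comp_appLE]
      exact congr($(GitQuot.appLE_congr hi.left _ _) s)
    · let 𝒱 : {V : Y'.left.affineOpens // V.1 ≤ U ∧ Piece a' φ' V.1} → Y'.left.Opens := fun V => V.1.1
      have hcov : U ≤ iSup 𝒱 := fun y hy => by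
        obtain ⟨O, hO, hyO, hOU, hp⟩ := H U y hy
        exact Opens.mem_iSup.2 ⟨⟨⟨O, hO⟩, hOU, hp⟩, hyO⟩
      have hloc : ∀ V : {V : Y'.left.affineOpens // V.1 ≤ U ∧ Piece a' φ' V.1}, ∃ s : Γ(Y'.left, 𝒱 V),
          φ'.left.app (𝒱 V) s = X'.left.presheaf.map (homOfLE (φ'.left.preimage_mono V.2.1)).op f :=
        fun V => V.2.2.1.2 (isInvSection_res a' φ' V.2.1 hf)
      choose sf hsf using hloc
      have hcompat : TopCat.Presheaf.IsCompatible Y'.left.sheaf.1 𝒱 sf := fun V₁ V₂ => hinjU _ (by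
        change φ'.left.app _ (Y'.left.presheaf.map _ (sf V₁)) = φ'.left.app _ (Y'.left.presheaf.map _ (sf V₂))
        rw [← CommRingCat.comp_apply, ← CommRingCat.comp_apply, φ'.left.naturality, φ'.left.naturality,
          CommRingCat.comp_apply, CommRingCat.comp_apply, hsf, hsf, ← CommRingCat.comp_apply,
          ← CommRingCat.comp_apply, ← Functor.map_comp, ← Functor.map_comp]
        rfl)
      obtain ⟨s, hs, -⟩ := Y'.left.sheaf.existsUnique_gluing' 𝒱 U (fun V => homOfLE V.2.1) hcov sf hcompat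
      refine ⟨s, ?_⟩
      refine X'.left.sheaf.eq_of_locally_eq' (fun V => φ'.left ⁻¹ᵁ 𝒱 V) (φ'.left ⁻¹ᵁ U)
        (fun V => homOfLE (φ'.left.preimage_mono V.2.1)) (fun x hx => ?_) _ _ fun V => ?_
      · obtain ⟨V, hV⟩ := Opens.mem_iSup.1 (hcov (show φ'.left x ∈ U from hx))
        exact Opens.mem_iSup.2 ⟨V, hV⟩
      · refine Eq.trans ?_ (hsf V)
        rw [← hs V]
        show (φ'.left.app U ≫ X'.left.presheaf.map _) s = (Y'.left.presheaf.map _ ≫ φ'.left.app (𝒱 V)) s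
        rw [φ'.left.naturality]
        rfl
  · refine ⟨isOpen_iff_forall_mem_open.2 fun y hy => ?_⟩
    obtain ⟨V, hV, hyV, -, hp⟩ := H ⊤ y trivial
    have hc := hp.2.1 W hW hiW
    refine ⟨(Scheme.Opens.ι V) '' ((resG V).left.base ⁻¹' (φ'.left.base '' W))ᶜ, ?_,
      (Scheme.Opens.ι V).isOpenEmbedding.isOpenMap _ hc.isOpen_compl, ⟨⟨y, hyV⟩, hy, rfl⟩⟩
    rintro _ ⟨v, hv, rfl⟩
    exact hv
  · refine Set.Subset.antisymm (Set.image_iInter_subset _ _) fun y hy => ?_
    obtain ⟨V, hV, hyV, -, hp⟩ := H ⊤ y trivial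
    have h : (⟨y, hyV⟩ : ↥V) ∈ ⋂ i, (resG V).left.base ⁻¹' (φ'.left.base '' W i) :=
      Set.mem_iInter.2 fun i => Set.mem_iInter.1 hy i
    rw [← hp.2.2 J W hW] at h
    exact h

section

variable {k : Type u} [Field k] {A : Type u} [CommRing A] [HopfAlgebra k A]
variable {G X Y : Over (Spec (CommRingCat.of k))} [GrpObj G] [IsAffine X.left] [IsAffine Y.left]

/-- Every base change of the affine quotient is a categorical quotient and a quotient map. -/
theorem isCatQuot_baseChange (hA : HopfRep.IsLinearlyReductive k A) (e : CoactBr.sp k A ≅ G) [IsMonHom e.hom]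
    (a : AlgGrp.Action G X) (φ : X ⟶ Y) (hinj : Function.Injective φ.left.appTop)
    (hrange : Set.range φ.left.appTop = {f : Γ(X.left, ⊤) | a.act.left.appTop f = (snd G X).left.appTop f})
    {X' Y' : Over (Spec (CommRingCat.of k))} {pr : X' ⟶ X} {φ' : X' ⟶ Y'} {g : Y' ⟶ Y}
    (sq : IsPullback pr φ' φ g) (a' : AlgGrp.Action G X') (ha : a'.act ≫ pr = (G ◁ pr) ≫ a.act)
    (hi : GIT.IsInvariant a' φ') :
    GIT.IsCatQuot a' φ' ∧ IsQuotientMap φ'.left.base :=
  isCatQuot_of_pieces a' φ' hi fun U y hy => by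
    obtain ⟨_, ⟨V, hV, rfl⟩, hyV, hVU⟩ := Y'.left.isBasis_affineOpens.exists_subset_of_mem_open hy U.2
    exact ⟨V, hV, hyV, hVU, affine_piece hA e a φ hinj hrange sq a' ha hi hV⟩

/-- The affine quotient is a universal categorical quotient and universally submersive. -/
theorem isUnivCatQuot_affine (hA : HopfRep.IsLinearlyReductive k A) (e : CoactBr.sp k A ≅ G) [IsMonHom e.hom]
    (a : AlgGrp.Action G X) (φ : X ⟶ Y) (hinv : GIT.IsInvariant a φ) (hinj : Function.Injective φ.left.appTop)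
    (hrange : Set.range φ.left.appTop = {f : Γ(X.left, ⊤) | a.act.left.appTop f = (snd G X).left.appTop f}) :
    GIT.IsUnivCatQuot a φ ∧ GIT.IsUnivSubmersive φ.left := by
  refine ⟨⟨(isCatQuot_baseChange hA e a φ hinj hrange (IsPullback.id_horiz φ) a (by simp) hinv).1,
    fun X' Y' pr φ' g _ sq a' ha hi => (isCatQuot_baseChange hA e a φ hinj hrange sq a' ha hi).1⟩, ?_⟩
  intro X₁ Y₁ i₁ i₂ f hf
  let Y'' : Over (Spec (CommRingCat.of k)) := Over.mk (i₂ ≫ Y.hom)
  let X'' : Over (Spec (CommRingCat.of k)) := Over.mk (i₁ ≫ X.hom)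
  let g : Y'' ⟶ Y := Over.homMk i₂ rfl
  let pr : X'' ⟶ X := Over.homMk i₁ rfl
  let φ'' : X'' ⟶ Y'' := Over.homMk f (by
    show f ≫ i₂ ≫ Y.hom = i₁ ≫ X.hom
    rw [reassoc_of% hf.w, Over.w])
  have sq : IsPullback pr φ'' φ g :=
    IsPullback.of_map (Over.forget _) (Over.OverMorphism.ext hf.w.symm) hf.flip
  obtain ⟨a', ha', hi'⟩ := GitQuot.exists_action a hinv sq
  exact (isCatQuot_baseChange hA e a φ hinj hrange sq a' ha' hi').2

end

end Groth.Agent.RedQuot
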