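import Groth.Agent.RedQuotLib.Normal
import Groth.Prelude.Def_GLinSh
import Mathlib.AlgebraicGeometry.Morphisms.QuasiFinite

/-!
# Finite stabilisers and quotients by a normal subgroup
-/

set_option autoImplicit false
set_option backward.isDefEq.respectTransparency false
set_option backward.isDefEq.respectTransparency.types false

noncomputable section

universe u

open CategoryTheory MonoidalCategory CartesianMonoidalCategory MonObj AlgebraicGeometry Topology
open CategoryTheory.Limits (pullback)

namespace Groth.Agent.RedQuot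

attribute [-instance] CategoryTheory.Hom.commGroup

/-- A scheme of finite type over an algebraically closed field is finite iff it has finitely many points. -/
theorem isFinite_iff_finite_points {Ω : Type u} [Field Ω] [IsAlgClosed Ω] {Z : Scheme.{u}}
    (f : Z ⟶ Spec (CommRingCat.of Ω)) [LocallyOfFiniteType f] [CompactSpace ↥Z] :
    IsFinite f ↔ Finite {p : Spec (CommRingCat.of Ω) ⟶ Z // p ≫ f = 𝟙 _} := by
  rw [(pointEquivClosedPoint f).finite_iff]
  constructor
  · intro h
    haveI : Finite ↥Z := by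
      have hu : (Set.univ : Set ↥Z).Finite := by
        have := f.finite_preimage (s := Set.univ) (Set.toFinite _)
        simpa using this
      exact Set.finite_univ_iff.1 hu
    infer_instance
  · intro h
    haveI : JacobsonSpace ↥Z := LocallyOfFiniteType.jacobsonSpace f
    haveI : DiscreteTopology ↥Z := JacobsonSpace.discreteTopology (Set.toFinite _)
    haveI : Finite ↥Z := finite_of_compact_of_discrete
    haveI : QuasiCompact f := (quasiCompact_iff_compactSpace f).2 inferInstance
    haveI : LocallyQuasiFinite f := LocallyQuasiFinite.of_finite_preimage_singleton f fun _ => Set.toFinite _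
    exact IsFinite.of_locallyQuasiFinite f

variable {k : Type u} [Field k]

/-- Finiteness of a stabiliser, on points. -/
theorem isFinite_stabTo_iff {G X : Over (Spec (CommRingCat.of k))} [GrpObj G] [IsAffine G.left]
    [LocallyOfFiniteType G.hom]
    (a : AlgGrp.Action G X) {Ω : Type u} [Field Ω] [IsAlgClosed Ω] {T : Over (Spec (CommRingCat.of k))}
    (e : T.left ≅ Spec (CommRingCat.of Ω)) (x : T ⟶ X) :
    IsFinite (GLinSh.stabTo a x) ↔ {g : T ⟶ G | lift g x ≫ a.act = x}.Finite := by
  let s : T ⟶ X ⊗ T := lift x (𝟙 T)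
  haveI : IsAffine T.left := IsAffine.of_isIso e.hom
  have hs : s.left ≫ (snd X T).left = 𝟙 _ := by rw [← Over.comp_left, lift_snd]; rfl
  haveI : IsImmersion (s.left ≫ (snd X T).left) := by rw [hs]; infer_instance
  haveI : IsImmersion s.left := IsImmersion.of_comp s.left (snd X T).left
  haveI : IsAffine (G ⊗ T).left := inferInstanceAs (IsAffine (pullback G.hom T.hom))
  let Z := GLinSh.stab a x
  haveI : IsImmersion (Limits.pullback.fst (GIT.psi a x).left s.left) :=
    MorphismProperty.pullback_fst _ _ inferInstance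
  haveI : LocallyOfFiniteType (snd G T).left := MorphismProperty.of_isPullback
    (show IsPullback (fst G T).left (snd G T).left G.hom T.hom from IsPullback.of_hasPullback G.hom T.hom)
    (inferInstanceAs (LocallyOfFiniteType G.hom))
  have hψ : (GIT.psi a x).left ≫ (snd X T).left = (snd G T).left := by
    rw [← Over.comp_left, GIT.psi, lift_snd]
  haveI : LocallyOfFiniteType ((GIT.psi a x).left ≫ (snd X T).left) := by rw [hψ]; infer_instance
  haveI : LocallyOfFiniteType (GIT.psi a x).left := locallyOfFiniteType_of_comp _ (snd X T).left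
  haveI : LocallyOfFiniteType (GLinSh.stabTo a x) := MorphismProperty.pullback_snd _ _ inferInstance
  haveI : IsNoetherian (G ⊗ T).left := by
    haveI : LocallyOfFiniteType ((snd G T).left ≫ e.hom) := inferInstance
    haveI : IsLocallyNoetherian (G ⊗ T).left :=
      LocallyOfFiniteType.isLocallyNoetherian ((snd G T).left ≫ e.hom)
    exact { }
  haveI : CompactSpace ↥Z := (Limits.pullback.fst (GIT.psi a x).left s.left).isEmbedding.isInducing.noetherianSpace.compactSpace
  rw [← MorphismProperty.cancel_right_of_respectsIso @IsFinite (GLinSh.stabTo a x) e.hom,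
    isFinite_iff_finite_points, ← Set.finite_coe_iff]
  have hp' : ∀ p : {p : Spec (CommRingCat.of Ω) ⟶ Z // p ≫ GLinSh.stabTo a x ≫ e.hom = 𝟙 _},
      e.hom ≫ p.1 ≫ GLinSh.stabTo a x = 𝟙 T.left := fun p => by
    have h := congrArg (fun m => e.hom ≫ m ≫ e.inv) p.2
    simpa using h
  have h2 : Limits.pullback.fst (GIT.psi a x).left s.left ≫ (snd G T).left = GLinSh.stabTo a x := by
    rw [← hψ, Limits.pullback.condition_assoc, hs, Category.comp_id]; rfl
  let toG : {p : Spec (CommRingCat.of Ω) ⟶ Z // p ≫ GLinSh.stabTo a x ≫ e.hom = 𝟙 _} → (T ⟶ G) := fun p =>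
    Over.homMk (e.hom ≫ p.1 ≫ Limits.pullback.fst (GIT.psi a x).left s.left ≫ (fst G T).left) (by
      rw [Category.assoc, Category.assoc, Category.assoc, Over.w (fst G T), ← Over.w (snd G T), reassoc_of% h2,
        reassoc_of% (hp' p)])
  have hr : ∀ p, (lift (toG p) (𝟙 T)).left = e.hom ≫ p.1 ≫ Limits.pullback.fst (GIT.psi a x).left s.left := by
    intro p
    apply Limits.pullback.hom_ext
    · show (lift (toG p) (𝟙 T)).left ≫ (fst G T).left = _
      rw [← Over.comp_left, lift_fst]; simp [toG]
    · show (lift (toG p) (𝟙 T)).left ≫ (snd G T).left = _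
      rw [← Over.comp_left, lift_snd, Category.assoc, Category.assoc,
        show Limits.pullback.snd G.hom T.hom = (snd G T).left from rfl, h2]
      exact (hp' p).symm
  have hiff : ∀ g : T ⟶ G, lift g x ≫ a.act = x ↔ lift g (𝟙 T) ≫ GIT.psi a x = s := by
    intro g
    constructor
    · intro hg
      apply CartesianMonoidalCategory.hom_ext
      · simp only [GIT.psi, s, Category.assoc, lift_fst]
        rw [← Category.assoc, lift_whiskerLeft, Category.id_comp]
        exact hg
      · simp [GIT.psi, s]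
    · intro h
      have h' := congrArg (· ≫ fst X T) h
      simp only [GIT.psi, s, Category.assoc, lift_fst] at h'
      rw [← Category.assoc, lift_whiskerLeft, Category.id_comp] at h'
      exact h'
  refine Equiv.finite_iff ?_
  refine
    { toFun := fun p => ⟨toG p, (hiff _).2 (Over.OverMorphism.ext ?_)⟩
      invFun := fun g => ⟨e.inv ≫ Limits.pullback.lift (lift g.1 (𝟙 T)).left (𝟙 _) ?_, ?_⟩
      left_inv := ?_
      right_inv := ?_ }
  · rw [Over.comp_left, hr, Category.assoc, Category.assoc, Limits.pullback.condition, ← Category.assoc p.1,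
      ← Category.assoc e.hom]
    change (e.hom ≫ p.1 ≫ GLinSh.stabTo a x) ≫ s.left = s.left
    rw [hp' p, Category.id_comp]
  · show _ = 𝟙 _ ≫ s.left
    rw [Category.id_comp, ← Over.comp_left, (hiff g.1).1 g.2]
  · show (e.inv ≫ Limits.pullback.lift _ _ _) ≫ GLinSh.stabTo a x ≫ e.hom = 𝟙 _
    rw [GLinSh.stabTo, Category.assoc, Limits.pullback.lift_snd_assoc, Category.id_comp, Iso.inv_hom_id]
  · intro p
    apply Subtype.ext
    rw [Iso.inv_comp_eq]
    apply Limits.pullback.hom_ext
    · rw [Limits.pullback.lift_fst, hr, Category.assoc]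
    · rw [Limits.pullback.lift_snd, Category.assoc]
      exact (hp' p).symm
  · intro g
    apply Subtype.ext
    refine Over.OverMorphism.ext ?_
    show e.hom ≫ (e.inv ≫ _) ≫ _ ≫ (fst G T).left = g.1.left
    rw [Category.assoc, Iso.hom_inv_id_assoc, Limits.pullback.lift_fst_assoc, ← Over.comp_left, lift_fst]

variable {H N Q X Y : Over (Spec (CommRingCat.of k))} [GrpObj H] [GrpObj N] [GrpObj Q]
  [IsAffine H.left] [LocallyOfFiniteType H.hom] [LocallyOfFiniteType N.hom]
  [IsAffine Q.left] [LocallyOfFiniteType Q.hom] [LocallyOfFiniteType X.hom]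

/-- Stabilisers downstairs are finite exactly when they are upstairs. -/
theorem isFinite_stab_iff (i : N ⟶ H) [IsMonHom i] (q : H ⟶ Q) [IsMonHom q] [Surjective q.left]
    (hker : AlgGrp.IsKernel i q) (a : AlgGrp.Action H X) (aN : AlgGrp.Action N X)
    (haN : aN.act = (i ▷ X) ≫ a.act) (π : X ⟶ Y) (hπ : GIT.IsGeomQuot aN π)
    (aQ : AlgGrp.Action Q Y) (hequiv : (q ⊗ₘ π) ≫ aQ.act = a.act ≫ π)
    {Ω : Type u} [Field Ω] [IsAlgClosed Ω] {T : Over (Spec (CommRingCat.of k))}
    (e : T.left ≅ Spec (CommRingCat.of Ω)) (x : T ⟶ X) (hN : {g : T ⟶ N | lift g x ≫ aN.act = x}.Finite) :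
    IsFinite (GLinSh.stabTo aQ (x ≫ π)) ↔ IsFinite (GLinSh.stabTo a x) := by
  haveI : LocallyOfFiniteType q.left := by
    haveI : LocallyOfFiniteType (q.left ≫ Q.hom) := by rw [Over.w q]; infer_instance
    exact locallyOfFiniteType_of_comp q.left Q.hom
  rw [isFinite_stabTo_iff aQ e, isFinite_stabTo_iff a e]
  have hπq : ∀ h : T ⟶ H, lift (h ≫ q) (x ≫ π) ≫ aQ.act = (lift h x ≫ a.act) ≫ π := fun h => by
    rw [Category.assoc, ← hequiv, lift_map_assoc]
  have hiN : ∀ n : T ⟶ N, lift (n ≫ i) x ≫ a.act = lift n x ≫ aN.act := fun n => by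
    rw [haN, lift_whiskerRight_assoc]
  constructor
  · intro hQ
    refine Set.Finite.of_finite_fibers (· ≫ q) ?_ ?_
    · refine hQ.subset ?_
      rintro _ ⟨h, hh, rfl⟩
      show lift (h ≫ q) (x ≫ π) ≫ aQ.act = x ≫ π
      rw [hπq, hh]
    · rintro _ ⟨h₀, hh₀, rfl⟩
      refine (hN.image fun n => h₀ * (n ≫ i)).subset ?_
      rintro h ⟨hh, hq : h ≫ q = h₀ ≫ q⟩
      have hz : (h₀⁻¹ * h) ≫ q = toUnit T ≫ η[Q] := by
        rw [← Hom.one_def, MonObj.mul_comp, GrpObj.inv_comp, hq, inv_mul_cancel]
      let n : T ⟶ N := hker.lift (h₀⁻¹ * h) (toUnit T) hz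
      have hn : n ≫ i = h₀⁻¹ * h := hker.lift_fst _ _ _
      refine ⟨n, ?_, (congrArg (h₀ * ·) hn).trans (mul_inv_cancel_left h₀ h)⟩
      show lift n x ≫ aN.act = x
      rw [← hiN, hn, ← act_mul, hh]
      conv_lhs => rw [← hh₀]
      rw [act_mul, inv_mul_cancel, act_one]
  · intro hH
    refine (hH.image (· ≫ q)).subset ?_
    intro r (hr : lift r (x ≫ π) ≫ aQ.act = x ≫ π)
    obtain ⟨h, rfl⟩ := exists_lift_point q Ω T e r
    let P : Over (Spec (CommRingCat.of k)) := Over.mk (Limits.pullback.fst π.left π.left ≫ X.hom)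
    let Ψ : N ⊗ X ⟶ P := Over.homMk (GIT.PsiY aN π hπ.inv) (by
      show GIT.PsiY aN π hπ.inv ≫ Limits.pullback.fst π.left π.left ≫ X.hom = (N ⊗ X).hom
      rw [GIT.PsiY, Limits.pullback.lift_fst_assoc, Over.w aN.act])
    haveI : Surjective Ψ.left := ⟨hπ.orbit⟩
    haveI : LocallyOfFiniteType (N ⊗ X).hom :=
      inferInstanceAs (LocallyOfFiniteType (Limits.pullback.fst N.hom X.hom ≫ N.hom))
    haveI : LocallyOfFiniteType Ψ.left := by
      haveI : LocallyOfFiniteType (Ψ.left ≫ P.hom) := by rw [Over.w Ψ]; infer_instance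
      exact locallyOfFiniteType_of_comp Ψ.left P.hom
    have hxy : (lift h x ≫ a.act) ≫ π = x ≫ π := by rw [← hπq]; exact hr
    let pt : T ⟶ P := Over.homMk (Limits.pullback.lift (lift h x ≫ a.act).left x.left
      (by rw [← Over.comp_left, hxy, Over.comp_left])) (by
      show Limits.pullback.lift _ _ _ ≫ Limits.pullback.fst π.left π.left ≫ X.hom = T.hom
      rw [Limits.pullback.lift_fst_assoc, Over.w])
    obtain ⟨w, hw⟩ := exists_lift_point Ψ Ω T e pt
    have hw₁ : w ≫ aN.act = lift h x ≫ a.act := Over.OverMorphism.ext (by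
      have := congrArg (fun m : T ⟶ P => m.left ≫ Limits.pullback.fst π.left π.left) hw
      simpa [Ψ, pt, GIT.PsiY] using this)
    have hw₂ : w ≫ snd N X = x := Over.OverMorphism.ext (by
      have := congrArg (fun m : T ⟶ P => m.left ≫ Limits.pullback.snd π.left π.left) hw
      simpa [Ψ, pt, GIT.PsiY] using this)
    let n : T ⟶ N := w ≫ fst N X
    have hw' : lift n x = w := by
      apply CartesianMonoidalCategory.hom_ext <;> simp [n, hw₂]
    rw [← hw', ← hiN] at hw₁
    refine ⟨(n ≫ i)⁻¹ * h, ?_, ?_⟩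
    · show lift _ x ≫ a.act = x
      rw [← act_mul, ← hw₁, act_mul, inv_mul_cancel, act_one]
    · have hi1 : (n ≫ i) ≫ q = 1 := by
        rw [Category.assoc, hker.w, ← Category.assoc, toUnit_unique (n ≫ toUnit N) (toUnit T), Hom.one_def]
      show ((n ≫ i)⁻¹ * h) ≫ q = h ≫ q
      rw [MonObj.mul_comp, GrpObj.inv_comp, hi1, inv_one, _root_.one_mul]

end Groth.Agent.RedQuot
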