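import Groth.Agent.RedQuotLib.Global
import Groth.Agent.PropActLib.Torsor

/-!
# Invariant maps which are affine quotients locally on the base
-/

set_option autoImplicit false
set_option backward.isDefEq.respectTransparency false
set_option backward.isDefEq.respectTransparency.types false

noncomputable section

universe u

open CategoryTheory MonoidalCategory CartesianMonoidalCategory MonObj AlgebraicGeometry Topology Opposite
open TopologicalSpace

namespace Groth.Agent.RedQuot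

attribute [local instance] coordAlg

variable {k : Type u} [Field k] {A : Type u} [CommRing A] [HopfAlgebra k A]
variable {G X Y : Over (Spec (CommRingCat.of k))} [GrpObj G]

/-- An affine piece of an invariant map is an affine quotient. -/
theorem functions_resMap (a : AlgGrp.Action G X) (φ : X ⟶ Y) (V : Y.left.Opens)
    (a' : AlgGrp.Action G (resX φ V)) (ha' : a'.act ≫ resPr φ V = (G ◁ resPr φ V) ≫ a.act)
    (hi' : GIT.IsInvariant a' (resMap φ V))
    (hinj : Function.Injective (φ.left.app V))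
    (hrange : {f | GIT.IsInvSection a φ V f} ⊆ Set.range (φ.left.app V)) :
    Function.Injective (resMap φ V).left.appTop ∧
      Set.range (resMap φ V).left.appTop =
        {f : Γ((resX φ V).left, ⊤) | a'.act.left.appTop f = (snd G (resX φ V)).left.appTop f} := by
  refine ⟨fun s t hst => ?_, Set.Subset.antisymm ?_ fun f hf => ?_⟩
  · obtain ⟨s', rfl⟩ := (bijective_ι_appLE V).2 s
    obtain ⟨t', rfl⟩ := (bijective_ι_appLE V).2 t
    refine congrArg _ (hinj ((bijective_ι_appLE (φ.left ⁻¹ᵁ V)).1 ?_))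
    rw [← ι_appLE_app, ← ι_appLE_app]
    exact hst
  · rintro _ ⟨s, rfl⟩
    show ((resMap φ V).left.appTop ≫ a'.act.left.appTop) s = ((resMap φ V).left.appTop ≫ (snd G _).left.appTop) s
    rw [← Scheme.Hom.comp_appTop, ← Scheme.Hom.comp_appTop, hi'.left]
  · obtain ⟨f', rfl⟩ := (bijective_ι_appLE (φ.left ⁻¹ᵁ V)).2 f
    obtain ⟨s, hs⟩ := hrange (PropAct.isInvSection_of_invariant a φ V a' ha' hf)
    exact ⟨V.ι.appLE V ⊤ (Scheme.Opens.ι_preimage_self V).ge s, (ι_appLE_app φ V s).trans (by rw [hs])⟩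

/-- Base changes of a map which is locally an affine quotient. -/
theorem isCatQuot_baseChange_local (hA : HopfRep.IsLinearlyReductive k A) (e : CoactBr.sp k A ≅ G) [IsMonHom e.hom]
    (a : AlgGrp.Action G X) (φ : X ⟶ Y) (hinv : GIT.IsInvariant a φ)
    (hloc : ∀ y : Y.left, ∃ V : Y.left.Opens, y ∈ V ∧ IsAffineOpen V ∧ IsAffineOpen (φ.left ⁻¹ᵁ V) ∧
      Function.Injective (φ.left.app V) ∧ {f | GIT.IsInvSection a φ V f} ⊆ Set.range (φ.left.app V))
    {X' Y' : Over (Spec (CommRingCat.of k))} {pr : X' ⟶ X} {φ' : X' ⟶ Y'} {g : Y' ⟶ Y}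
    (sq : IsPullback pr φ' φ g) (a' : AlgGrp.Action G X') (ha : a'.act ≫ pr = (G ◁ pr) ≫ a.act)
    (hi : GIT.IsInvariant a' φ') :
    GIT.IsCatQuot a' φ' ∧ IsQuotientMap φ'.left.base := by
  refine isCatQuot_of_pieces a' φ' hi fun U y hy => ?_
  obtain ⟨V₀, hyV₀, hV₀, hV₀', hinj, hrange⟩ := hloc (g.left y)
  obtain ⟨V, hV, hyV, hVU⟩ := exists_isAffineOpen_mem_and_subset (X := Y'.left) (x := y) (U := U ⊓ g.left ⁻¹ᵁ V₀) ⟨hy, hyV₀⟩
  refine ⟨V, hV, hyV, fun z hz => (hVU hz).1, ?_⟩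
  haveI : IsAffine (resY V).left := hV
  haveI : IsAffine (resY V₀).left := hV₀
  haveI : IsAffine (resX φ V₀).left := hV₀'
  obtain ⟨a₀, ha₀, hi₀⟩ := GitQuot.exists_action a hinv (isPullback_res φ V₀)
  obtain ⟨hinj₀, hrange₀⟩ := functions_resMap a φ V₀ a₀ ha₀ hi₀ hinj hrange
  have hle : (φ'.left ⁻¹ᵁ V) ≤ pr.left ⁻¹ᵁ (φ.left ⁻¹ᵁ V₀) := fun z hz => by
    show φ.left (pr.left z) ∈ V₀
    rw [← Scheme.Hom.comp_apply, ← Over.comp_left, sq.w, Over.comp_left, Scheme.Hom.comp_apply]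
    exact (hVU hz).2
  let gV : resY V ⟶ resY V₀ := Over.homMk (g.left.resLE V₀ V fun z hz => (hVU hz).2) (by
    show g.left.resLE V₀ V _ ≫ V₀.ι ≫ Y.hom = V.ι ≫ Y'.hom
    rw [Scheme.Hom.resLE_comp_ι_assoc, Over.w])
  let pV : resX φ' V ⟶ resX φ V₀ := Over.homMk (pr.left.resLE (φ.left ⁻¹ᵁ V₀) (φ'.left ⁻¹ᵁ V) hle) (by
    show pr.left.resLE _ _ _ ≫ (φ.left ⁻¹ᵁ V₀).ι ≫ X.hom = (φ'.left ⁻¹ᵁ V).ι ≫ X'.hom
    rw [Scheme.Hom.resLE_comp_ι_assoc, Over.w])
  have hp : pV ≫ resPr φ V₀ = resPr φ' V ≫ pr := Over.OverMorphism.ext (Scheme.Hom.resLE_comp_ι _ _)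
  have hg : gV ≫ resG V₀ = resG V ≫ g := Over.OverMorphism.ext (Scheme.Hom.resLE_comp_ι _ _)
  haveI : Mono (resG V₀).left := inferInstanceAs (Mono V₀.ι)
  haveI : Mono (resG V₀) := Over.mono_of_mono_left _
  have hw : pV ≫ resMap φ V₀ = resMap φ' V ≫ gV := by
    rw [← cancel_mono (resG V₀), Category.assoc, Category.assoc, ← (isPullback_res φ V₀).w, hg, ← Category.assoc, hp,
      Category.assoc, sq.w, ← Category.assoc, (isPullback_res φ' V).w, Category.assoc]
  have sq' : IsPullback pV (resMap φ' V) (resMap φ V₀) gV :=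
    IsPullback.of_right (by rw [hp, hg]; exact (isPullback_res φ' V).paste_horiz sq) hw (isPullback_res φ V₀)
  haveI : IsAffineHom (resMap φ' V).left :=
    MorphismProperty.of_isPullback (sq'.map (Over.forget _)) (inferInstanceAs (IsAffineHom (resMap φ V₀).left))
  haveI : IsAffine (resX φ' V).left := isAffine_of_isAffineHom (resMap φ' V).left
  obtain ⟨a'', ha'', hi''⟩ := GitQuot.exists_action a' hi (isPullback_res φ' V)
  haveI : Mono (resPr φ V₀).left := inferInstanceAs (Mono (φ.left ⁻¹ᵁ V₀).ι)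
  haveI : Mono (resPr φ V₀) := Over.mono_of_mono_left _
  have ha3 : a''.act ≫ pV = (G ◁ pV) ≫ a₀.act := by
    rw [← cancel_mono (resPr φ V₀), Category.assoc, hp, ← Category.assoc, ha'', Category.assoc, ha, Category.assoc,
      ha₀, ← MonoidalCategory.whiskerLeft_comp_assoc, ← MonoidalCategory.whiskerLeft_comp_assoc, hp]
  obtain ⟨hinj', hrange'⟩ := functions_baseChange hA e a₀ (resMap φ V₀) hinj₀ hrange₀ sq' a'' ha3 hi''
  obtain ⟨c, hc, hco⟩ := exists_coaction e a''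
  obtain ⟨hcl, hinter⟩ := closed_images e a'' (resMap φ' V) hinj' hrange' hA hco
  refine ⟨⟨fun s t hst => ?_, fun f hf => ?_⟩, fun W hW hiW => ?_, fun J W hW => ?_⟩
  · refine (bijective_ι_appLE V).1 (hinj' ?_)
    show (φ'.left ∣_ V).appTop _ = (φ'.left ∣_ V).appTop _
    rw [ι_appLE_app, ι_appLE_app, hst]
  · obtain ⟨s', hs'⟩ := (Set.ext_iff.1 hrange' _).2 (invariant_res a' φ' V a'' ha'' hf)
    obtain ⟨s, rfl⟩ := (bijective_ι_appLE V).2 s'
    refine ⟨s, (bijective_ι_appLE (φ'.left ⁻¹ᵁ V)).1 ?_⟩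
    rw [← ι_appLE_app]
    exact hs'
  · rw [image_res]
    exact hcl _ (hW.preimage (resPr φ' V).left.continuous) (invariant_preimage a' a'' _ ha'' W hiW)
  · simp only [image_res, Set.preimage_iInter]
    exact hinter J _ fun i => ⟨(hW i).1.preimage (resPr φ' V).left.continuous,
      invariant_preimage a' a'' _ ha'' (W i) (hW i).2⟩

/-- A map which is locally an affine quotient is a universal categorical quotient and universally submersive. -/
theorem isUnivCatQuot_local (hA : HopfRep.IsLinearlyReductive k A) (e : CoactBr.sp k A ≅ G) [IsMonHom e.hom]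
    (a : AlgGrp.Action G X) (φ : X ⟶ Y) (hinv : GIT.IsInvariant a φ)
    (hloc : ∀ y : Y.left, ∃ V : Y.left.Opens, y ∈ V ∧ IsAffineOpen V ∧ IsAffineOpen (φ.left ⁻¹ᵁ V) ∧
      Function.Injective (φ.left.app V) ∧ {f | GIT.IsInvSection a φ V f} ⊆ Set.range (φ.left.app V)) :
    GIT.IsUnivCatQuot a φ ∧ GIT.IsUnivSubmersive φ.left := by
  refine ⟨⟨(isCatQuot_baseChange_local hA e a φ hinv hloc (IsPullback.id_horiz φ) a (by simp) hinv).1,
    fun X' Y' pr φ' g _ sq a' ha hi => (isCatQuot_baseChange_local hA e a φ hinv hloc sq a' ha hi).1⟩, ?_⟩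
  intro X₁ Y₁ i₁ i₂ f hf
  let Y'' : Over (Spec (CommRingCat.of k)) := Over.mk (i₂ ≫ Y.hom)
  let X'' : Over (Spec (CommRingCat.of k)) := Over.mk (i₁ ≫ X.hom)
  let g : Y'' ⟶ Y := Over.homMk i₂ rfl
  let pr : X'' ⟶ X := Over.homMk i₁ rfl
  let φ'' : X'' ⟶ Y'' := Over.homMk f (by
    show f ≫ i₂ ≫ Y.hom = i₁ ≫ X.hom
    rw [reassoc_of% hf.w, Over.w])
  have sq : IsPullback pr φ'' φ g :=
    IsPullback.of_map (Over.forget _) (Over.OverMorphism.ext hf.w.symm) hf.flip
  obtain ⟨a', ha', hi'⟩ := GitQuot.exists_action a hinv sq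
  exact (isCatQuot_baseChange_local hA e a φ hinv hloc sq a' ha' hi').2

end Groth.Agent.RedQuot
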