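import Groth.Agent.RedQuotLib.Main

/-!
# The affine quotient is geometric exactly when orbits are closed
-/

set_option autoImplicit false
set_option backward.isDefEq.respectTransparency false
set_option backward.isDefEq.respectTransparency.types false

noncomputable section

universe u

open CategoryTheory MonoidalCategory CartesianMonoidalCategory MonObj AlgebraicGeometry
open CategoryTheory.Limits (pullback)

namespace Groth.Agent.RedQuot

attribute [-instance] CategoryTheory.Hom.commGroup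

section Prod

variable {S : Scheme.{u}} {G X Y A B : Over S}

theorem isPullback_whiskerRight (φ : X ⟶ Y) (T : Over S) : IsPullback (fst X T) (φ ▷ T) φ (fst Y T) := by
  refine ⟨⟨by simp⟩, ⟨Limits.PullbackCone.IsLimit.mk _ (fun s => lift s.fst (s.snd ≫ snd Y T))
    (fun s => by simp) (fun s => ?_) fun s m h₁ h₂ => ?_⟩⟩
  · apply CartesianMonoidalCategory.hom_ext <;> simp [s.condition]
  · apply CartesianMonoidalCategory.hom_ext
    · simp [h₁]
    · simp [← h₂]

theorem isPullback_whiskerLeft (ψ : A ⟶ B) : IsPullback (G ◁ ψ) (snd G A) (snd G B) ψ := by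
  refine ⟨⟨by simp⟩, ⟨Limits.PullbackCone.IsLimit.mk _ (fun s => lift (s.fst ≫ fst G B) s.snd)
    (fun s => ?_) (fun s => by simp) fun s m h₁ h₂ => ?_⟩⟩
  · apply CartesianMonoidalCategory.hom_ext <;> simp [s.condition]
  · apply CartesianMonoidalCategory.hom_ext
    · simp [← h₁]
    · simp [h₂]

theorem exists_point_of_isPullback {P X₁ X₂ Z : Scheme.{u}} {p₁ : P ⟶ X₁} {p₂ : P ⟶ X₂} {f₁ : X₁ ⟶ Z} {f₂ : X₂ ⟶ Z}
    (h : IsPullback p₁ p₂ f₁ f₂) (x₁ : X₁) (x₂ : X₂) (e : f₁ x₁ = f₂ x₂) : ∃ z : P, p₁ z = x₁ ∧ p₂ z = x₂ := by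
  obtain ⟨z, h₁, h₂⟩ := Scheme.Pullback.exists_preimage_pullback x₁ x₂ e
  refine ⟨h.isoPullback.inv z, ?_, ?_⟩
  · rw [← Scheme.Hom.comp_apply, IsPullback.isoPullback_inv_fst]; exact h₁
  · rw [← Scheme.Hom.comp_apply, IsPullback.isoPullback_inv_snd]; exact h₂

end Prod

variable {k : Type u} [Field k] {A : Type u} [CommRing A] [HopfAlgebra k A]
variable {G X Y : Over (Spec (CommRingCat.of k))} [GrpObj G]

/-- Orbit images are invariant. -/
theorem invariant_range_psi (a : AlgGrp.Action G X) {T : Over (Spec (CommRingCat.of k))} (f : T ⟶ X)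
    (a' : AlgGrp.Action G (X ⊗ T)) (ha : a'.act ≫ fst X T = (G ◁ fst X T) ≫ a.act)
    (hs : a'.act ≫ snd X T = snd G (X ⊗ T) ≫ snd X T) :
    a'.act.left.base '' ((snd G (X ⊗ T)).left.base ⁻¹' Set.range (GIT.psi a f).left.base) ⊆
      Set.range (GIT.psi a f).left.base := by
  rintro _ ⟨z, ⟨w, hw⟩, rfl⟩
  have sqL : IsPullback (G ◁ GIT.psi a f).left (snd G (G ⊗ T)).left (snd G (X ⊗ T)).left (GIT.psi a f).left :=
    (isPullback_whiskerLeft (G := G) (GIT.psi a f)).map (Over.forget _)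
  obtain ⟨v, hv, -⟩ := exists_point_of_isPullback sqL z w hw.symm
  let g₁ : G ⊗ (G ⊗ T) ⟶ G := fst G (G ⊗ T)
  let g₂ : G ⊗ (G ⊗ T) ⟶ G := snd G (G ⊗ T) ≫ fst G T
  let τ : G ⊗ (G ⊗ T) ⟶ T := snd G (G ⊗ T) ≫ snd G T
  have key : (G ◁ GIT.psi a f) ≫ a'.act = lift (g₁ * g₂) τ ≫ GIT.psi a f := by
    apply CartesianMonoidalCategory.hom_ext
    · have e : (G ◁ GIT.psi a f) ≫ (G ◁ fst X T) = lift g₁ (lift g₂ (τ ≫ f) ≫ a.act) := by
        apply CartesianMonoidalCategory.hom_ext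
        · simp [g₁]
        · simp only [GIT.psi, g₁, g₂, τ, Category.assoc, whiskerLeft_snd, whiskerLeft_snd_assoc, lift_snd, lift_fst]
          rw [← Category.assoc, ← Category.assoc (snd G (G ⊗ T))]
          congr 1
          apply CartesianMonoidalCategory.hom_ext <;> simp
      rw [Category.assoc, ha, reassoc_of% e, act_mul]
      simp [GIT.psi, τ]
    · rw [Category.assoc, hs, ← Category.assoc, whiskerLeft_snd, Category.assoc, GIT.psi, lift_snd, Category.assoc,
        lift_snd, lift_snd]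
  refine ⟨(lift (g₁ * g₂) τ).left v, ?_⟩
  change (GIT.psi a f).left ((lift (g₁ * g₂) τ).left v) = a'.act.left z
  rw [← Scheme.Hom.comp_apply, ← Over.comp_left, ← key, Over.comp_left, Scheme.Hom.comp_apply, hv]

variable [IsAffine X.left] [IsAffine Y.left]

/-- If orbits are closed then the orbits are exactly the fibres of the affine quotient. -/
theorem surjective_psiY (hA : HopfRep.IsLinearlyReductive k A) (e : CoactBr.sp k A ≅ G) [IsMonHom e.hom]
    (a : AlgGrp.Action G X) (φ : X ⟶ Y) (hinv : GIT.IsInvariant a φ) (hinj : Function.Injective φ.left.appTop)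
    (hrange : Set.range φ.left.appTop = {f : Γ(X.left, ⊤) | a.act.left.appTop f = (snd G X).left.appTop f})
    (hc : GIT.IsClosedAction a) : Function.Surjective (GIT.PsiY a φ hinv).base := by
  intro p
  let P := pullback φ.left φ.left
  let Ω : Type u := AlgebraicClosure (P.residueField p)
  let t : Spec (CommRingCat.of Ω) ⟶ P :=
    Spec.map (CommRingCat.ofHom (algebraMap (P.residueField p) Ω)) ≫ P.fromSpecResidueField p
  let T : Over (Spec (CommRingCat.of k)) := Over.mk (t ≫ Limits.pullback.fst φ.left φ.left ≫ X.hom)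
  let f₁ : T ⟶ X := Over.homMk (t ≫ Limits.pullback.fst φ.left φ.left) (Category.assoc _ _ _)
  let f₂ : T ⟶ X := Over.homMk (t ≫ Limits.pullback.snd φ.left φ.left) (by
    show (t ≫ _) ≫ X.hom = t ≫ Limits.pullback.fst φ.left φ.left ≫ X.hom
    simp only [t, Category.assoc, ← Over.w φ, Limits.pullback.condition_assoc])
  have hff : f₁ ≫ φ = f₂ ≫ φ := Over.OverMorphism.ext (by
    show (t ≫ _) ≫ φ.left = (t ≫ _) ≫ φ.left
    simp only [t, Category.assoc, Limits.pullback.condition])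
  haveI : IsAffine T.left := inferInstanceAs (IsAffine (Spec (CommRingCat.of Ω)))
  haveI : IsAffine (X ⊗ T).left := inferInstanceAs (IsAffine (pullback X.hom T.hom))
  haveI : IsAffine (Y ⊗ T).left := inferInstanceAs (IsAffine (pullback Y.hom T.hom))
  have sq := isPullback_whiskerRight φ T
  obtain ⟨a', ha', hi'⟩ := GitQuot.exists_action a hinv sq
  have hs' : a'.act ≫ snd X T = snd G (X ⊗ T) ≫ snd X T := by
    have h := congrArg (· ≫ snd Y T) hi'
    simpa using h
  obtain ⟨-, hrange'⟩ := functions_baseChange hA e a φ hinj hrange sq a' ha' hi'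
  letI := coordAlg (X ⊗ T)
  obtain ⟨c, hcc, hco⟩ := exists_coaction e a'
  have hmeet : ¬ Disjoint (Set.range (GIT.psi a f₁).left.base) (Set.range (GIT.psi a f₂).left.base) := by
    intro hd
    obtain ⟨F, hF, hF₁, hF₂⟩ := exists_separating e a' hA hco _ _ (hc Ω T (Iso.refl _) f₁) (hc Ω T (Iso.refl _) f₂)
      (invariant_range_psi a f₁ a' ha' hs') (invariant_range_psi a f₂ a' ha' hs') hd
    obtain ⟨b, hb⟩ := (Set.ext_iff.1 hrange' _).2 hF
    let t₀ : T.left := IsLocalRing.closedPoint Ω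
    let s : T ⟶ Y ⊗ T := lift (f₁ ≫ φ) (𝟙 T)
    have hs : ∀ f : T ⟶ X, f ≫ φ = f₁ ≫ φ → lift f (𝟙 T) ≫ (φ ▷ T) = s := fun f hf => by
      rw [lift_whiskerRight, hf]
    have hmem : ∀ f : T ⟶ X, (lift f (𝟙 T)).left t₀ ∈ Set.range (GIT.psi a f).left.base := fun f => by
      refine ⟨(lift (1 : T ⟶ G) (𝟙 T)).left t₀, ?_⟩
      change (GIT.psi a f).left _ = _
      rw [← Scheme.Hom.comp_apply, ← Over.comp_left,
        show lift (1 : T ⟶ G) (𝟙 T) ≫ GIT.psi a f = lift f (𝟙 T) by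
          apply CartesianMonoidalCategory.hom_ext
          · simp [GIT.psi, act_one]
          · simp [GIT.psi]]
    have hz : ∀ (f : T ⟶ X) (F' : Γ((X ⊗ T).left, ⊤)) (b' : Γ((Y ⊗ T).left, ⊤)), f ≫ φ = f₁ ≫ φ →
        (φ ▷ T).left.appTop b' = F' →
        Set.range (GIT.psi a f).left.base ⊆ (X ⊗ T).left.zeroLocus (U := ⊤) {F'} →
        ¬ t₀ ∈ T.left.basicOpen (s.left.appTop b') := by
      intro f F' b' hf hb' hsub ht
      have h1 := (Scheme.mem_zeroLocus_iff _ _ _).1 (hsub (hmem f)) F' rfl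
      refine h1 ?_
      show t₀ ∈ (lift f (𝟙 T)).left ⁻¹ᵁ (X ⊗ T).left.basicOpen F'
      rw [Scheme.preimage_basicOpen, ← hb']
      rw [← hs f hf, Over.comp_left, Scheme.Hom.comp_appTop] at ht
      exact ht
    have h₁ := hz f₁ F b rfl hb hF₁
    have h₂ := hz f₂ (1 - F) (1 - b) hff.symm (by rw [map_sub, map_one, hb]) hF₂
    rw [map_sub, map_one, Scheme.mem_basicOpen_top] at h₂
    rw [Scheme.mem_basicOpen_top] at h₁
    rw [map_sub, map_one] at h₂
    exact (IsLocalRing.isUnit_or_isUnit_one_sub_self _).elim h₁ h₂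
  obtain ⟨q, ⟨w₁, hw₁⟩, w₂, hw₂⟩ := Set.not_disjoint_iff.1 hmeet
  let ψ₁ := GIT.psi a f₁
  let ψ₂ := GIT.psi a f₂
  obtain ⟨z, hz₁, hz₂⟩ := Scheme.Pullback.exists_preimage_pullback (f := ψ₁.left) (g := ψ₂.left) w₁ w₂
    (hw₁.trans hw₂.symm)
  let Q : Over (Spec (CommRingCat.of k)) := Over.mk (Limits.pullback.fst ψ₁.left ψ₂.left ≫ (G ⊗ T).hom)
  let u₁ : Q ⟶ G ⊗ T := Over.homMk (Limits.pullback.fst ψ₁.left ψ₂.left) rfl
  let u₂ : Q ⟶ G ⊗ T := Over.homMk (Limits.pullback.snd ψ₁.left ψ₂.left) (by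
    show _ = Limits.pullback.fst ψ₁.left ψ₂.left ≫ (G ⊗ T).hom
    nth_rw 2 [← Over.w ψ₁]
    rw [← Over.w ψ₂, Limits.pullback.condition_assoc])
  have hu : u₁ ≫ GIT.psi a f₁ = u₂ ≫ GIT.psi a f₂ := Over.OverMorphism.ext Limits.pullback.condition
  let g₁ := u₁ ≫ fst G T
  let g₂ := u₂ ≫ fst G T
  let τ := u₁ ≫ snd G T
  have hτ : u₂ ≫ snd G T = τ := by
    have h := congrArg (· ≫ snd X T) hu
    simp only [GIT.psi, Category.assoc, lift_snd] at h
    exact h.symm
  have hg : lift g₁ (τ ≫ f₁) ≫ a.act = lift g₂ (τ ≫ f₂) ≫ a.act := by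
    have h := congrArg (· ≫ fst X T) hu
    simp only [GIT.psi, Category.assoc, lift_fst] at h
    rw [show lift g₁ (τ ≫ f₁) = u₁ ≫ (G ◁ f₁) by
        apply CartesianMonoidalCategory.hom_ext <;> simp [g₁, τ],
      show lift g₂ (τ ≫ f₂) = u₂ ≫ (G ◁ f₂) by
        apply CartesianMonoidalCategory.hom_ext <;> simp [g₂, ← hτ],
      Category.assoc, Category.assoc]
    exact h
  let v : Q ⟶ G ⊗ X := lift (g₁⁻¹ * g₂) (τ ≫ f₂)
  refine ⟨v.left z, ?_⟩
  have e' : v ≫ a.act = τ ≫ f₁ := by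
    show lift (g₁⁻¹ * g₂) (τ ≫ f₂) ≫ a.act = _
    rw [← act_mul, ← hg, act_mul, inv_mul_cancel, act_one]
  have ev : v.left ≫ GIT.PsiY a φ hinv = τ.left ≫ t := by
    apply Limits.pullback.hom_ext
    · rw [GIT.PsiY, Category.assoc, Limits.pullback.lift_fst, ← Over.comp_left, e', Over.comp_left, Category.assoc]
      rfl
    · rw [GIT.PsiY, Category.assoc, Limits.pullback.lift_snd, ← Over.comp_left, lift_snd, Over.comp_left,
        Category.assoc]
      rfl
  show (GIT.PsiY a φ hinv) (v.left z) = p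
  rw [← Scheme.Hom.comp_apply, ev, Scheme.Hom.comp_apply]
  show P.fromSpecResidueField p _ = p
  exact Scheme.fromSpecResidueField_apply p _

end Groth.Agent.RedQuot
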