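import Groth.Agent.GitQuot.Torsor
import Groth.Agent.GitQuot.Basic
import Groth.Prelude.Def_ChGrp

/-!
# Categorical quotients of balanced products
-/

set_option autoImplicit false
set_option backward.isDefEq.respectTransparency false
set_option backward.isDefEq.respectTransparency.types false

noncomputable section

universe u

open CategoryTheory CategoryTheory.Limits MonoidalCategory CartesianMonoidalCategory MonObj AlgebraicGeometry

namespace Groth.Agent.RedQuot

attribute [-instance] CategoryTheory.Hom.commGroup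

variable {S : Scheme.{u}}

/-- An fpqc torsor under a flat affine group is flat, surjective and quasi-compact. -/
theorem epiProps_of_torsor {G X Y : Over S} [GrpObj G] (a : AlgGrp.Action G X) (φ : X ⟶ Y) [IsAffineHom G.hom]
    [Flat G.hom] (hcart : IsPullback a.act (snd G X) φ φ)
    (hloc : NonAbH1.IsLocallyTrivialFor Scheme.fpqcPrecoverage (Over.mk φ.left : Over Y.left)) :
    Flat φ.left ∧ Surjective φ.left ∧ QuasiCompact φ.left := by
  obtain ⟨ha, hq⟩ := GitTorsor.isAffineHom_and_isGeomQuot a φ hcart hloc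
  refine ⟨?_, ⟨hq.surj⟩, inferInstance⟩
  obtain ⟨R, hR, hsec⟩ := hloc
  obtain ⟨I₀, Z, f, rfl⟩ := R.exists_eq_ofArrows
  let E0 : PreZeroHypercover Y.left := { I₀ := I₀, X := Z, f := f }
  obtain ⟨hq0, hfl⟩ := (HTopV.mem_fpqc_iff E0).mp hR
  haveI := hq0
  let E := QuasiCompactCover.ulift E0
  have hE : E.presieve₀ ∈ Scheme.fpqcPrecoverage Y.left :=
    (HTopV.mem_fpqc_iff E).mpr ⟨inferInstanceAs (QuasiCompactCover (QuasiCompactCover.ulift E0)), fun i => hfl _⟩
  haveI : SchDesc.IsFpqc (Sigma.desc E.f) := SchDesc.isFpqc_sigmaDesc (X := E.X) (f := E.f) hE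
  have hs : ∀ i : E.I₀, ∃ s : E.X i ⟶ X.left, s ≫ φ.left = E.f i := fun i => hsec _ (Presieve.ofArrows.mk _)
  choose s hs using hs
  let p := Sigma.desc E.f
  let σ : (∐ E.X) ⟶ X.left := Sigma.desc s
  have hσ : σ ≫ φ.left = p := Sigma.hom_ext _ _ fun i => by simp [σ, p, hs]
  have hl : IsPullback a.act.left (snd G X).left φ.left φ.left := hcart.map (Over.forget S)
  have h1 : Flat (snd G X).left := MorphismProperty.pullback_snd G.hom X.hom (inferInstanceAs (Flat G.hom))
  let fst' := hl.lift (pullback.fst φ.left p) (pullback.snd φ.left p ≫ σ) (by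
    rw [Category.assoc, hσ, pullback.condition])
  have sq : IsPullback fst' (pullback.snd φ.left p) (snd G X).left σ :=
    IsPullback.of_right (t := hl) (by
      rw [hl.lift_fst, hσ]; exact IsPullback.of_hasPullback φ.left p) (hl.lift_snd _ _ _)
  exact TorsorDesc.prop_of_isFpqc @Flat inferInstance φ.left p (MorphismProperty.of_isPullback sq h1)

/-- The quotient of a balanced product is the quotient of the slice. -/
theorem exists_iso_catQuot {G H Z Y P Q : Over S} [GrpObj G] [GrpObj H] [IsAffineHom H.hom] [Flat H.hom]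
    (i : H ⟶ G) [IsMonHom i] (aZ : AlgGrp.Action H Z) (aY : AlgGrp.Action G Y) (j : G ⊗ Z ⟶ Y)
    (hY : ChGrp.IsBalProd Scheme.fppfPrecoverage i aZ aY j)
    (πZ : Z ⟶ P) (hP : GIT.IsCatQuot aZ πZ) (πY : Y ⟶ Q) (hQ : GIT.IsCatQuot aY πY) :
    ∃ (φ : P ⟶ Q) (χ : Q ⟶ P), φ ≫ χ = 𝟙 P ∧ χ ≫ φ = 𝟙 Q ∧
      πZ ≫ φ = lift (toUnit Z ≫ η[G]) (𝟙 Z) ≫ j ≫ πY ∧ j ≫ πY ≫ χ = snd G Z ≫ πZ := by
  obtain ⟨heq, hcart, R, hR, hsec⟩ := hY
  have hloc : NonAbH1.IsLocallyTrivialFor Scheme.fpqcPrecoverage (Over.mk j.left : Over Y.left) :=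
    ⟨R, Scheme.fppfPrecoverage_le_fpqcPrecoverage _ hR, hsec⟩
  obtain ⟨-, hj⟩ := GitTorsor.isAffineHom_and_isGeomQuot (ChGrp.twist i aZ) j hcart hloc
  obtain ⟨hfl, hsu, hqc⟩ := epiProps_of_torsor (ChGrp.twist i aZ) j hcart hloc
  have hcat := GitQuot.isCatQuot_of_isGeomQuot (ChGrp.twist i aZ) j hj
  let s : Z ⟶ G ⊗ Z := lift (toUnit Z ≫ η[G]) (𝟙 Z)
  -- equivariance of `j`
  have heq' : ∀ {T : Over S} (g g' : T ⟶ G) (z : T ⟶ Z),
      lift (g * g') z ≫ j = lift g (lift g' z ≫ j) ≫ aY.act := by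
    intro T g g' z
    have h := congrArg (fun m => lift g (lift g' z) ≫ m) heq
    simp only [lift_whiskerLeft_assoc, AlgGrp.Action.lift_prod_act_assoc] at h
    rw [AlgGrp.Action.lift_trivial_act] at h
    rw [← h, Hom.mul_def]
    rfl
  -- invariant maps out of `Y`
  have hψ : GIT.IsInvariant (ChGrp.twist i aZ) (snd G Z ≫ πZ) := by
    show (ChGrp.twist i aZ).act ≫ snd G Z ≫ πZ = snd H (G ⊗ Z) ≫ snd G Z ≫ πZ
    have e : 𝟙 (H ⊗ (G ⊗ Z)) = lift (fst H (G ⊗ Z)) (lift (snd H (G ⊗ Z) ≫ fst G Z) (snd H (G ⊗ Z) ≫ snd G Z)) := by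
      apply CartesianMonoidalCategory.hom_ext
      · simp
      · apply CartesianMonoidalCategory.hom_ext <;> simp
    rw [← Category.id_comp (ChGrp.twist i aZ).act, e, ChGrp.lift_twist_act, lift_snd_assoc, Category.assoc, hP.1,
      ← Category.assoc, lift_snd, Category.assoc]
  obtain ⟨ψY, hψY, -⟩ := hcat.2 P _ hψ
  have hinvY : GIT.IsInvariant aY ψY := by
    show aY.act ≫ ψY = snd G Y ≫ ψY
    have sq : IsPullback (G ◁ j) (snd G (G ⊗ Z)) (snd G Y) j := by
      refine ⟨⟨by simp⟩, ⟨Limits.PullbackCone.IsLimit.mk _ (fun s => lift (s.fst ≫ fst G Y) s.snd)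
        (fun s => ?_) (fun s => by simp) fun s m h₁ h₂ => ?_⟩⟩
      · apply CartesianMonoidalCategory.hom_ext <;> simp [s.condition]
      · apply CartesianMonoidalCategory.hom_ext
        · simp [← h₁]
        · simp [h₂]
    have sqL : IsPullback (G ◁ j).left (snd G (G ⊗ Z)).left (snd G Y).left j.left := sq.map (Over.forget S)
    haveI : Flat (G ◁ j).left := MorphismProperty.of_isPullback sqL.flip hfl
    haveI : Surjective (G ◁ j).left := MorphismProperty.of_isPullback sqL.flip hsu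
    haveI : QuasiCompact (G ◁ j).left := MorphismProperty.of_isPullback sqL.flip hqc
    haveI : EffectiveEpi (G ◁ j).left := inferInstance
    haveI : Epi (G ◁ j) := Over.epi_of_epi_left _
    rw [← cancel_epi (G ◁ j)]
    have e : 𝟙 (G ⊗ (G ⊗ Z)) = lift (fst G (G ⊗ Z)) (lift (snd G (G ⊗ Z) ≫ fst G Z) (snd G (G ⊗ Z) ≫ snd G Z)) := by
      apply CartesianMonoidalCategory.hom_ext
      · simp
      · apply CartesianMonoidalCategory.hom_ext <;> simp
    rw [← Category.id_comp (G ◁ j), e, Category.assoc, Category.assoc, lift_whiskerLeft_assoc, lift_whiskerLeft_assoc,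
      ← reassoc_of% (heq' _ _ _), hψY, lift_snd_assoc, lift_snd_assoc]
    simp only [Category.assoc, hψY, lift_snd_assoc]
  obtain ⟨χ, hχ, -⟩ := hQ.2 P ψY hinvY
  have hinvZ : GIT.IsInvariant aZ (s ≫ j ≫ πY) := by
    show aZ.act ≫ s ≫ j ≫ πY = snd H Z ≫ s ≫ j ≫ πY
    have e1 : aZ.act ≫ s = lift ((fst H Z ≫ i) * (fst H Z ≫ i)⁻¹) (lift (fst H Z) (snd H Z) ≫ aZ.act) := by
      rw [mul_inv_cancel, lift_fst_snd, Category.id_comp]
      apply CartesianMonoidalCategory.hom_ext
      · simp only [s, Category.assoc, lift_fst, Hom.one_def]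
        rw [← Category.assoc, toUnit_unique (aZ.act ≫ toUnit Z) (toUnit _)]
      · simp [s]
    have e2 : lift (fst H Z ≫ i) (snd H Z) ≫ j = lift (fst H Z ≫ i) (snd H Z ≫ s ≫ j) ≫ aY.act := by
      have h := heq' (fst H Z ≫ i) 1 (snd H Z)
      rw [_root_.mul_one] at h
      rw [h]
      congr 2
      rw [← Category.assoc (snd H Z), Hom.one_def]
      congr 1
      apply CartesianMonoidalCategory.hom_ext
      · simp only [s, lift_fst, Category.assoc]
        rw [← Category.assoc, toUnit_unique (snd H Z ≫ toUnit Z) (toUnit _)]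
      · simp [s]
    rw [← Category.assoc, e1, ← ChGrp.lift_twist_act, Category.assoc, reassoc_of% hcat.1, lift_snd_assoc,
      reassoc_of% e2, hQ.1, lift_snd_assoc, Category.assoc, Category.assoc]
  obtain ⟨φ, hφ, -⟩ := hP.2 Q _ hinvZ
  have hsnd : j ≫ πY ≫ χ = snd G Z ≫ πZ := by rw [hχ, hψY]
  refine ⟨φ, χ, ?_, ?_, hφ, hsnd⟩
  · refine (hP.2 P πZ hP.1).unique ?_ (Category.comp_id _)
    rw [← Category.assoc, hφ, Category.assoc, Category.assoc, hsnd, ← Category.assoc, lift_snd, Category.id_comp]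
  · refine (hQ.2 Q πY hQ.1).unique ?_ (Category.comp_id _)
    haveI : Flat j.left := hfl
    haveI : Surjective j.left := hsu
    haveI : QuasiCompact j.left := hqc
    haveI : EffectiveEpi j.left := inferInstance
    haveI : Epi j := Over.epi_of_epi_left _
    rw [← cancel_epi j, reassoc_of% hsnd, hφ]
    have e3 : j = lift (fst G Z) (snd G Z ≫ s ≫ j) ≫ aY.act := by
      have h := heq' (fst G Z) 1 (snd G Z)
      rw [_root_.mul_one, lift_fst_snd, Category.id_comp] at h
      conv_lhs => rw [h]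
      congr 2
      rw [← Category.assoc, Hom.one_def]
      congr 1
      apply CartesianMonoidalCategory.hom_ext
      · simp only [s, lift_fst, Category.assoc]
        rw [← Category.assoc, toUnit_unique (snd G Z ≫ toUnit Z) (toUnit _)]
      · simp [s]
    conv_rhs => rw [e3, Category.assoc, hQ.1, lift_snd_assoc]
    simp

end Groth.Agent.RedQuot
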