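import Groth.Agent.Comodule.InvFinite
import Groth.Agent.AdicEasyLib.Basic

/-!
# Invariants are adically complete at a fixed point
-/

set_option autoImplicit false
set_option backward.isDefEq.respectTransparency false

universe u v w w'

open IsLocalRing

noncomputable section

namespace Groth.Agent.RedQuot

/-- Chevalley's lemma for finite modules. -/
theorem exists_le_pow_smul {R : Type u} [CommRing R] [IsLocalRing R] [IsNoetherianRing R]
    [IsAdicComplete (maximalIdeal R) R] {N : Type v} [AddCommGroup N] [Module R N] [Module.Finite R N]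
    (F : ℕ → Submodule R N) (hF : Antitone F) (hbot : ∀ x, (∀ i, x ∈ F i) → x = 0) (n : ℕ) :
    ∃ i, F i ≤ maximalIdeal R ^ n • (⊤ : Submodule R N) := by
  classical
  haveI : IsAdicComplete (maximalIdeal R) N := AdicEasyLib.isAdicComplete_of_finite (maximalIdeal R) N
  let P : ℕ → Submodule R N := fun a => maximalIdeal R ^ a • ⊤
  have hmin : ∀ a : ℕ, ∃ i, ∀ j, F i ≤ F j ⊔ P a := by
    intro a
    haveI : IsArtinianRing (R ⧸ maximalIdeal R ^ a) := by
      rcases Nat.eq_zero_or_pos a with rfl | ha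
      · rw [pow_zero, Ideal.one_eq_top]
        haveI : Subsingleton (R ⧸ (⊤ : Ideal R)) := Ideal.Quotient.subsingleton_iff.mpr rfl
        infer_instance
      rw [isArtinianRing_iff_isNoetherianRing_krullDimLE_zero]
      refine ⟨inferInstance, Ring.krullDimLE_zero_iff.mpr fun Q hQ => ?_⟩
      have hcm : maximalIdeal R ≤ Q.comap (Ideal.Quotient.mk (maximalIdeal R ^ a)) :=
        (Ideal.IsPrime.comap _).le_of_pow_le (n := a) (fun x hx => by
          rw [Ideal.mem_comap, Ideal.Quotient.eq_zero_iff_mem.mpr hx]; exact zero_mem Q)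
      have : (Q.comap (Ideal.Quotient.mk (maximalIdeal R ^ a))).IsMaximal := by
        rw [← (maximalIdeal.isMaximal R).eq_of_le (Ideal.comap_ne_top _ hQ.ne_top) hcm]
        infer_instance
      have h' := Ideal.map_eq_top_or_isMaximal_of_surjective (Ideal.Quotient.mk (maximalIdeal R ^ a))
        Ideal.Quotient.mk_surjective this
      rw [Ideal.map_comap_of_surjective _ Ideal.Quotient.mk_surjective] at h'
      exact h'.resolve_left hQ.ne_top
    haveI : Module.Finite (R ⧸ maximalIdeal R ^ a) (N ⧸ P a) :=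
      Module.Finite.of_restrictScalars_finite R _ _
    haveI : IsArtinian R (N ⧸ P a) :=
      isArtinian_of_surjective_algebraMap (R := R ⧸ maximalIdeal R ^ a) Ideal.Quotient.mk_surjective
    obtain ⟨i, hi⟩ := IsArtinian.monotone_stabilizes (R := R) (M := N ⧸ P a)
      ⟨fun j => OrderDual.toDual ((F j).map (P a).mkQ), fun x y h => Submodule.map_mono (hF h)⟩
    refine ⟨i, fun j => ?_⟩
    rcases le_total i j with h | h
    · intro x hx
      have e : (F i).map (P a).mkQ = (F j).map (P a).mkQ := hi j h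
      have hx' : x ∈ ((F j).map (P a).mkQ).comap (P a).mkQ := e ▸ Submodule.mem_map_of_mem hx
      rw [Submodule.comap_map_eq, Submodule.ker_mkQ] at hx'
      exact hx'
    · exact le_sup_of_le_left (hF h)
  choose i hi using hmin
  refine ⟨i n, fun x hx => ?_⟩
  have step : ∀ (a : ℕ) (y : N), (∀ j, y ∈ F j ⊔ P a) →
      ∃ y', (∀ j, y' ∈ F j ⊔ P (a + 1)) ∧ y' - y ∈ P a := by
    intro a y hy
    obtain ⟨p, hp, q, hq, rfl⟩ := Submodule.mem_sup.mp (hy (i (a + 1)))
    refine ⟨p, fun j => hi (a + 1) j hp, ?_⟩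
    rw [sub_add_cancel_left]
    exact neg_mem hq
  choose next hnext1 hnext2 using step
  let seq : (a : ℕ) → {y : N // ∀ j, y ∈ F j ⊔ P (n + a)} := fun a =>
    Nat.rec ⟨x, fun j => hi n j hx⟩ (fun a y => ⟨next (n + a) y.1 y.2, hnext1 (n + a) y.1 y.2⟩) a
  have hdiff : ∀ a, (seq (a + 1)).1 - (seq a).1 ∈ P (n + a) := fun a => hnext2 _ _ (seq a).2
  have hmono : ∀ {a b : ℕ}, a ≤ b → P b ≤ P a := fun h =>
    Submodule.smul_mono_left (Ideal.pow_le_pow_right h)
  have hd : ∀ a b, a ≤ b → (seq b).1 - (seq a).1 ∈ P (n + a) := fun a b h => by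
    induction b, h using Nat.le_induction with
    | base => rw [sub_self]; exact zero_mem _
    | succ b h ih =>
      rw [← sub_add_sub_cancel (seq (b + 1)).1 (seq b).1 (seq a).1]
      exact add_mem (hmono (by omega) (hdiff b)) ih
  obtain ⟨L, hL⟩ := IsPrecomplete.prec (I := maximalIdeal R) (M := N) inferInstance (f := fun a => (seq a).1)
    fun {a b} h => by
      rw [SModEq.comm, SModEq.sub_mem]
      exact hmono (by omega : a ≤ n + a) (hd a b h)
  have hL' : ∀ a, (seq a).1 - L ∈ P a := fun a => SModEq.sub_mem.1 (hL a)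
  have hLF : ∀ j, L ∈ F j := by
    intro j
    haveI : IsHausdorff (maximalIdeal R) (N ⧸ F j) :=
      IsHausdorff.of_le_jacobson _ _ (IsAdicComplete.le_jacobson_bot _)
    rw [← Submodule.Quotient.mk_eq_zero]
    refine IsHausdorff.haus (I := maximalIdeal R) inferInstance _ fun a => ?_
    rw [SModEq.zero]
    have h1 : L ∈ F j ⊔ P a := by
      have h2 : (seq a).1 ∈ F j ⊔ P a := sup_le_sup_left (hmono (Nat.le_add_left a n)) _ ((seq a).2 j)
      rw [← sub_sub_cancel (seq a).1 L]
      exact sub_mem h2 (Submodule.mem_sup_right (hL' a))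
    obtain ⟨p, hp, q, hq, rfl⟩ := Submodule.mem_sup.mp h1
    rw [Submodule.Quotient.mk_add, (Submodule.Quotient.mk_eq_zero _).2 hp, zero_add]
    exact Submodule.smul_top_le_comap_smul_top _ (F j).mkQ hq
  have hL0 : L = 0 := hbot L hLF
  have h1 := hL' n
  rw [hL0, sub_zero] at h1
  have h2 := hd 0 n (Nat.zero_le _)
  rw [show x = (seq n).1 - ((seq n).1 - (seq 0).1) from (sub_sub_cancel _ _).symm]
  exact sub_mem h1 h2

variable {k : Type u} [Field k] {H : Type v} [CommRing H] [HopfAlgebra k H]
variable {A : Type w} [CommRing A] [Algebra k A] [HopfRep.Comod k H A] [GLin.IsCoactAlg k H A]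
variable {M : Type w'} [AddCommGroup M] [Module k M] [Module A M] [IsScalarTower k A M] [HopfRep.Comod k H M]
  [TameAct.IsHopfMod k H A M]

variable (k H A M) in
/-- The fixed vectors as a module over the invariants. -/
def fixedMod : Submodule (GLin.invariants k H A) M where
  carrier := HopfRep.fixedPts k H M
  add_mem' := (HopfRep.fixedPts k H M).add_mem
  zero_mem' := (HopfRep.fixedPts k H M).zero_mem
  smul_mem' c y hy := by
    show HopfRep.Comod.coact (k := k) (A := H) ((c : A) • y) = ((c : A) • y) ⊗ₜ[k] (1 : H)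
    rw [TameAct.IsHopfMod.coact_smul (k := k) (A := H) (B := A), (GLin.mem_invariants_iff _ _ _ _).1 c.2,
      show HopfRep.Comod.coact (k := k) (A := H) y = y ⊗ₜ[k] (1 : H) from hy]
    simp

/-- Invariants of a finite module are separated and complete at a fixed maximal ideal. -/
theorem fixedPts_separated_and_complete (hG : HopfRep.IsLinearlyReductive k H) [IsNoetherianRing A]
    (m : Ideal A) [hmax : m.IsMaximal] (hm : HopfRep.IsSubcomod (k := k) (A := H) (m.restrictScalars k))
    [IsLocalRing (GLin.invariants k H A)] [IsNoetherianRing (GLin.invariants k H A)]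
    [IsAdicComplete (IsLocalRing.maximalIdeal (GLin.invariants k H A)) (GLin.invariants k H A)]
    [Module.Finite A M] :
    (∀ x ∈ HopfRep.fixedPts k H M, (∀ n : ℕ, x ∈ (m ^ n • ⊤ : Submodule A M)) → x = 0) ∧
      ∀ x : ℕ → M, (∀ n, x n ∈ HopfRep.fixedPts k H M) →
        (∀ n, x (n + 1) - x n ∈ (m ^ n • ⊤ : Submodule A M)) →
          ∃ y ∈ HopfRep.fixedPts k H M, ∀ n, y - x n ∈ (m ^ n • ⊤ : Submodule A M) := by
  classical
  obtain ⟨α, hα, h1⟩ := Comodule.InvFinite.exists_total A hG
  let C := GLin.invariants k H A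
  let E := TameAct.reynolds k H A A α
  have hE : ∀ a, E a ∈ C := fun a => Comodule.reynolds_mem_fixedPts α hα a
  have hE1 : E 1 = 1 := Comodule.reynolds_fixed α h1 C.one_mem
  have hEm : ∀ y ∈ m, E y ∈ m := by
    intro y hy
    obtain ⟨z, hz⟩ := hm y hy
    simp only [E, TameAct.reynolds, LinearMap.comp_apply, ← hz]
    clear hz
    induction z with
    | zero => simp
    | add p q hp hq => simp only [map_add]; exact m.add_mem hp hq
    | tmul p q => simpa using m.mul_mem_left _ p.2
  -- the fixed point lies over the closed point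
  have hmC : maximalIdeal C = m.comap (algebraMap C A) := by
    refine ((IsLocalRing.eq_maximalIdeal ?_)).symm
    refine Ideal.isMaximal_iff.2 ⟨fun h => hmax.ne_top ((Ideal.eq_top_iff_one _).2 (by simpa using h)), ?_⟩
    intro J c hJ hc hcJ
    obtain ⟨a, b, hb, hab⟩ := hmax.exists_inv (x := algebraMap C A c) hc
    have hEc : E (a * algebraMap C A c) = E a * algebraMap C A c := by
      have := Comodule.InvFinite.reynolds_smul_fixed (M := A) α a (y := algebraMap C A c) c.2
      simpa only [smul_eq_mul] using this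
    have h2 : E a * algebraMap C A c + E b = 1 := by rw [← hEc, ← map_add, hab, hE1]
    have h3 : (⟨E a, hE a⟩ : C) * c + ⟨E b, hE b⟩ = 1 := Subtype.ext h2
    rw [← h3]
    exact J.add_mem (J.mul_mem_left _ hcJ) (hJ (Ideal.mem_comap.2 (hEm b hb)))
  let N := fixedMod k H A M
  haveI : Module.Finite C N := by
    obtain ⟨s, hs, hgen⟩ := Comodule.InvFinite.fixedPts_fg (k := k) (A := H) (R := A) (M := M) hG
    refine Module.Finite.iff_fg.2 ⟨s, le_antisymm (Submodule.span_le.2 hs) fun y hy => ?_⟩
    obtain ⟨c, hc, rfl⟩ := hgen y hy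
    exact Submodule.sum_mem _ fun z hz =>
      Submodule.smul_mem _ (⟨c z, hc z hz⟩ : C) (Submodule.subset_span hz)
  haveI : IsAdicComplete (maximalIdeal C) N := AdicEasyLib.isAdicComplete_of_finite (maximalIdeal C) N
  let F : ℕ → Submodule C N := fun n => ((m ^ n • ⊤ : Submodule A M).restrictScalars C).comap N.subtype
  have hF : Antitone F := fun a b h y hy => Submodule.smul_mono_left (Ideal.pow_le_pow_right h) hy
  have hsep : ∀ y ∈ HopfRep.fixedPts k H M, (∀ n : ℕ, y ∈ (m ^ n • ⊤ : Submodule A M)) → y = 0 := by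
    intro y hy hn
    obtain ⟨r, hr⟩ := (m.mem_iInf_smul_pow_eq_bot_iff y).1 ((Submodule.mem_iInf _).2 hn)
    have h2 : E (r : A) • y = y := by
      rw [← Comodule.InvFinite.reynolds_smul_fixed α (r : A) hy, hr, Comodule.reynolds_fixed α h1 hy]
    have hu : IsUnit (1 - (⟨E r, hE r⟩ : C)) :=
      (IsLocalRing.isUnit_or_isUnit_one_sub_self (⟨E r, hE r⟩ : C)).resolve_left fun h =>
        (IsLocalRing.mem_maximalIdeal _).1 (hmC ▸ Ideal.mem_comap.2 (hEm _ r.2)) h
    obtain ⟨u, hu⟩ := hu
    have h3 : (u : C) • y = 0 := by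
      rw [hu, sub_smul, one_smul]
      exact sub_eq_zero.2 h2.symm
    calc y = ((↑u⁻¹ : C) * u) • y := by rw [Units.inv_mul, one_smul]
      _ = 0 := by rw [mul_smul, h3, smul_zero]
  refine ⟨hsep, fun x hx hcauchy => ?_⟩
  have hpow : ∀ n, maximalIdeal C ^ n • (⊤ : Submodule C N) ≤ F n := by
    intro n
    rw [Submodule.smul_le]
    intro c hc y _
    show (algebraMap C A c) • (y : M) ∈ (m ^ n • ⊤ : Submodule A M)
    refine Submodule.smul_mem_smul ?_ trivial
    have : (maximalIdeal C ^ n).map (algebraMap C A) ≤ m ^ n := by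
      rw [Ideal.map_pow, hmC]
      exact Ideal.pow_right_mono Ideal.map_comap_le n
    exact this (Ideal.mem_map_of_mem _ hc)
  have hex : ∀ j, ∃ i, F i ≤ maximalIdeal C ^ j • (⊤ : Submodule C N) :=
    exists_le_pow_smul F hF fun y hy => Subtype.ext (hsep y y.2 hy)
  choose s hs using hex
  let t : ℕ → ℕ := fun j => max j ((Finset.range (j + 1)).sup s)
  have ht : ∀ j, s j ≤ t j := fun j =>
    le_max_of_le_right (Finset.le_sup (Finset.self_mem_range_succ j))
  have htm : Monotone t := fun a b h =>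
    max_le_max h (Finset.sup_mono (Finset.range_mono (by omega)))
  let z : ℕ → N := fun n => ⟨x n, hx n⟩
  have hd : ∀ a b, a ≤ b → z b - z a ∈ F a := fun a b h => by
    induction b, h using Nat.le_induction with
    | base => rw [sub_self]; exact zero_mem _
    | succ b h ih =>
      rw [← sub_add_sub_cancel (z (b + 1)) (z b) (z a)]
      exact add_mem (hF h (hcauchy b)) ih
  obtain ⟨y, hy⟩ := IsPrecomplete.prec (I := maximalIdeal C) (M := N) inferInstance (f := fun j => z (t j))
    fun {a b} h => by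
      rw [SModEq.comm, SModEq.sub_mem]
      exact hs a (hF (ht a) (hd _ _ (htm h)))
  refine ⟨y, y.2, fun n => ?_⟩
  have h2 : y - z n ∈ F n := by
    rw [← sub_add_sub_cancel y (z (t n)) (z n)]
    refine add_mem (hpow n ?_) (hd n (t n) (le_max_left _ _))
    rw [← neg_sub]
    exact neg_mem (SModEq.sub_mem.1 (hy n))
  exact h2

end Groth.Agent.RedQuot
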