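import Groth.Prelude.Def_CoactBr
import Groth.Prelude.Def_W4bk4git07Quot
import Groth.Agent.CoactPtsLib.Bridge
import Mathlib

/-!
# Actions on affine schemes in coordinates

An action of an affine group on an affine scheme is given by a coaction on the ring of functions.
-/

set_option autoImplicit false
set_option backward.isDefEq.respectTransparency false
set_option backward.isDefEq.respectTransparency.types false

noncomputable section

universe u

open CategoryTheory MonoidalCategory CartesianMonoidalCategory MonObj AlgebraicGeometry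
open scoped TensorProduct

namespace Groth.Agent.RedQuot

variable {k : Type u} [Field k]

/-- The algebra of functions of a scheme over a field. -/
@[reducible] def coordAlg (X : Over (Spec (CommRingCat.of k))) : Algebra k Γ(X.left, ⊤) :=
  ((Scheme.ΓSpecIso (CommRingCat.of k)).inv ≫ X.hom.appTop).hom.toAlgebra

attribute [local instance] coordAlg

/-- The braided structure of `Spec` at the spelling `CommRingCat.of k`. -/
local instance braidedAlgSpecOf (k : Type u) [CommRing k] : (algSpec (CommRingCat.of k)).Braided :=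
  braidedAlgSpec

/-- An affine scheme is the spectrum of its functions. -/
def eX (X : Over (Spec (CommRingCat.of k))) [IsAffine X.left] : CoactBr.sp k Γ(X.left, ⊤) ≅ X :=
  Over.isoMk X.left.isoSpec.symm (by
    show X.left.isoSpec.inv ≫ X.hom =
      Spec.map ((Scheme.ΓSpecIso (CommRingCat.of k)).inv ≫ X.hom.appTop)
    rw [Spec.map_comp, ← Scheme.isoSpec_inv_naturality X.hom]
    simp [Scheme.isoSpec_Spec])

theorem eX_left (X : Over (Spec (CommRingCat.of k))) [IsAffine X.left] :
    (eX X).hom.left = X.left.isoSpec.inv := rfl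

/-- Evaluating a function at a ring valued point. -/
theorem appTop_pt (X : Over (Spec (CommRingCat.of k))) [IsAffine X.left] {C : Type u} [CommRing C] [Algebra k C]
    (φ : Γ(X.left, ⊤) →ₐ[k] C) (f : Γ(X.left, ⊤)) :
    (CoactBr.pt φ ≫ (eX X).hom).left.appTop f = (Scheme.ΓSpecIso (CommRingCat.of C)).inv (φ f) := by
  rw [Over.comp_left, eX_left, CoactBr.pt_left]
  show ((Spec.map (CommRingCat.ofHom φ.toRingHom)) ≫ X.left.isoSpec.inv).appTop f = _
  rw [Scheme.Hom.comp_appTop]
  have h : X.left.isoSpec.inv.appTop = (Scheme.ΓSpecIso Γ(X.left, ⊤)).inv := by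
    rw [← cancel_mono X.left.isoSpec.hom.appTop, ← Scheme.Hom.comp_appTop, Iso.hom_inv_id, Scheme.Hom.id_appTop]
    simp [Scheme.isoSpec]
  rw [h, ← Scheme.ΓSpecIso_inv_naturality]
  rfl

section Act

variable {G X : Over (Spec (CommRingCat.of k))} [GrpObj G] (a : AlgGrp.Action G X)

/-- The right action `x · g = g⁻¹ · x`. -/
def rX : X ⊗ G ⟶ X := lift (snd X G ≫ GrpObj.inv) (fst X G) ≫ a.act

theorem lift_rX {T : Over (Spec (CommRingCat.of k))} (x : T ⟶ X) (g : T ⟶ G) :
    lift x g ≫ rX a = lift g⁻¹ x ≫ a.act := by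
  rw [rX, ← Category.assoc, comp_lift, lift_snd_assoc, lift_fst, Hom.inv_def]

theorem act_one {T : Over (Spec (CommRingCat.of k))} (x : T ⟶ X) : lift (1 : T ⟶ G) x ≫ a.act = x := by
  rw [Hom.one_def, ← lift_whiskerRight, Category.assoc, a.one_act, CartesianMonoidalCategory.leftUnitor_hom,
    lift_snd]

theorem act_mul {T : Over (Spec (CommRingCat.of k))} (g h : T ⟶ G) (x : T ⟶ X) :
    lift g (lift h x ≫ a.act) ≫ a.act = lift (g * h) x ≫ a.act := by
  rw [Hom.mul_def, ← lift_whiskerRight, Category.assoc, a.mul_act, lift_lift_associator_hom_assoc,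
    lift_whiskerLeft_assoc]

theorem rX_one {T : Over (Spec (CommRingCat.of k))} (x : T ⟶ X) : lift x (1 : T ⟶ G) ≫ rX a = x := by
  rw [lift_rX, inv_one, act_one]

theorem rX_mul {T : Over (Spec (CommRingCat.of k))} (x : T ⟶ X) (g h : T ⟶ G) :
    lift (lift x g ≫ rX a) h ≫ rX a = lift x (g * h) ≫ rX a := by
  rw [lift_rX, lift_rX, lift_rX, act_mul, mul_inv_rev]

/-- The shear exchanging the right and left action. -/
def shear : X ⊗ G ≅ G ⊗ X where
  hom := lift (snd X G ≫ GrpObj.inv) (fst X G)
  inv := lift (snd G X) (fst G X ≫ GrpObj.inv)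
  hom_inv_id := by
    apply CartesianMonoidalCategory.hom_ext
    · simp
    · simp only [Category.assoc, lift_snd, lift_fst_assoc, Category.id_comp]
      rw [← Category.assoc]
      exact (Hom.inv_def (C := Over (Spec (CommRingCat.of k))) _).symm.trans
        ((congrArg (·⁻¹) (Hom.inv_def _).symm).trans (inv_inv _))
  inv_hom_id := by
    apply CartesianMonoidalCategory.hom_ext
    · simp only [Category.assoc, lift_fst, lift_snd_assoc, Category.id_comp]
      rw [← Category.assoc]
      exact (Hom.inv_def (C := Over (Spec (CommRingCat.of k))) _).symm.trans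
        ((congrArg (·⁻¹) (Hom.inv_def _).symm).trans (inv_inv _))
    · simp

theorem shear_snd : (shear (G := G) (X := X)).hom ≫ snd G X = fst X G := lift_snd _ _

end Act

section Coord

variable {A : Type u} [CommRing A] [HopfAlgebra k A]
variable {G X : Over (Spec (CommRingCat.of k))} [GrpObj G] (e : CoactBr.sp k A ≅ G) [IsMonHom e.hom]
  [IsAffine X.left] (a : AlgGrp.Action G X)

/-- The universal pair of points. -/
def univPair (B : Type u) [CommRing B] [Algebra k B] (A : Type u) [CommRing A] [Algebra k A] :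
    CoactBr.sp k (B ⊗[k] A) ⟶ CoactBr.sp k B ⊗ CoactBr.sp k A :=
  lift (CoactBr.pt Algebra.TensorProduct.includeLeft) (CoactBr.pt Algebra.TensorProduct.includeRight)

instance isIso_univPair (B : Type u) [CommRing B] [Algebra k B] (A : Type u) [CommRing A] [Algebra k A] :
    IsIso (univPair (k := k) B A) := by
  let m := Functor.LaxMonoidal.μ (algSpec (CommRingCat.of k)) (Opposite.op (CommAlgCat.of k B))
    (Opposite.op (CommAlgCat.of k A))
  have h : univPair (k := k) B A ≫ m = 𝟙 (CoactBr.sp k (B ⊗[k] A)) := by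
    rw [univPair, CoactBr.lift_pt_pt, ← CoactBr.pt_id]
    congr 1
    exact Algebra.TensorProduct.ext' fun b c => by simp
  rw [(IsIso.eq_comp_inv m).mpr h]
  exact inferInstanceAs (IsIso (𝟙 _ ≫ inv m))

/-- A coaction giving the action in coordinates. -/
def IsCoord [HopfRep.Comod k A Γ(X.left, ⊤)] [GLin.IsCoactAlg k A Γ(X.left, ⊤)] : Prop :=
  ((eX X).hom ⊗ₘ e.hom) ≫ rX a = CoactBr.ract k A Γ(X.left, ⊤) ≫ (eX X).hom

/-- Every action of an affine group on an affine scheme comes from a coaction. -/
theorem exists_coaction : ∃ (c : HopfRep.Comod k A Γ(X.left, ⊤)) (_ : @GLin.IsCoactAlg k _ A _ _ Γ(X.left, ⊤) _ _ c),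
    IsCoord e a := by
  let B : Type u := Γ(X.left, ⊤)
  let r : CoactBr.sp k B ⊗ CoactBr.sp k A ⟶ CoactBr.sp k B := ((eX X).hom ⊗ₘ e.hom) ≫ rX a ≫ (eX X).inv
  have hlift : ∀ {T : Over (Spec (CommRingCat.of k))} (x : T ⟶ CoactBr.sp k B) (g : T ⟶ CoactBr.sp k A),
      lift x g ≫ r = (lift (x ≫ (eX X).hom) (g ≫ e.hom) ≫ rX a) ≫ (eX X).inv := fun x g => by
    simp only [r, lift_map_assoc, Category.assoc]
  have h1 : ∀ {T : Over (Spec (CommRingCat.of k))} (x : T ⟶ CoactBr.sp k B),
      lift x (1 : T ⟶ CoactBr.sp k A) ≫ r = x := fun x => by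
    rw [hlift, MonObj.one_comp, rX_one, Category.assoc, Iso.hom_inv_id, Category.comp_id]
  have h2 : ∀ {T : Over (Spec (CommRingCat.of k))} (x : T ⟶ CoactBr.sp k B) (g h : T ⟶ CoactBr.sp k A),
      lift (lift x g ≫ r) h ≫ r = lift x (g * h) ≫ r := fun x g h => by
    rw [hlift, hlift, hlift]
    congr 1
    rw [MonObj.mul_comp, ← rX_mul a (x ≫ (eX X).hom)]
    simp only [Category.assoc, Iso.inv_hom_id, Category.comp_id]
  obtain ⟨ρ, hρ⟩ := CoactPtsLib.exists_pt (univPair (k := k) B A ≫ r)
  have hpt : ∀ {C : Type u} [CommRing C] [Algebra k C] (x : B →ₐ[k] C) (g : A →ₐ[k] C),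
      lift (CoactBr.pt x) (CoactBr.pt g) ≫ r =
        CoactBr.pt ((Algebra.TensorProduct.lift x g fun _ _ => .all _ _).comp ρ) := fun x g => by
    have key : CoactBr.pt (Algebra.TensorProduct.lift x g fun _ _ => .all _ _) ≫ univPair (k := k) B A =
        lift (CoactBr.pt x) (CoactBr.pt g) := by
      rw [univPair, comp_lift, ← CoactBr.pt_comp, ← CoactBr.pt_comp]
      simp
    rw [CoactBr.pt_comp, ← hρ, ← Category.assoc (CoactBr.pt _), key]
  letI c : HopfRep.Comod k A B :=
    { coact := ρ.toLinearMap
      coassoc := by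
        have h := h2 (CoactBr.pt (Algebra.TensorProduct.includeLeft : B →ₐ[k] B ⊗[k] (A ⊗[k] A)))
          (CoactBr.pt ((Algebra.TensorProduct.includeRight : A ⊗[k] A →ₐ[k] B ⊗[k] (A ⊗[k] A)).comp
            Algebra.TensorProduct.includeLeft))
          (CoactBr.pt ((Algebra.TensorProduct.includeRight : A ⊗[k] A →ₐ[k] B ⊗[k] (A ⊗[k] A)).comp
            Algebra.TensorProduct.includeRight))
        rw [CoactBr.pt_mul_pt, hpt, hpt, hpt] at h
        refine LinearMap.ext fun f => ?_
        have h' := AlgHom.congr_fun (CoactBr.pt_injective h) f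
        simp only [AlgHom.comp_apply] at h'
        simp only [LinearMap.comp_apply, LinearEquiv.coe_coe, AlgHom.toLinearMap_apply]
        refine Eq.trans ?_ (h'.trans ?_)
        · generalize ρ f = z
          induction z with
          | zero => simp
          | add p q hp hq => simp only [map_add, hp, hq]
          | tmul p q =>
            simp only [LinearMap.rTensor_tmul, AlgHom.toLinearMap_apply, Algebra.TensorProduct.lift_tmul,
              AlgHom.comp_apply]
            generalize ρ p = y
            induction y with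
            | zero => simp
            | add s t hs ht => simp only [TensorProduct.add_tmul, map_add, add_mul, hs, ht]
            | tmul s t => simp
        · generalize ρ f = z
          induction z with
          | zero => simp
          | add p q hp hq => simp only [map_add, hp, hq]
          | tmul p q =>
            simp only [LinearMap.lTensor_tmul, Algebra.TensorProduct.lift_tmul, AlgHom.comp_apply,
              Bialgebra.comulAlgHom_apply]
            generalize Coalgebra.comul (R := k) q = y
            induction y with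
            | zero => simp
            | add s t hs ht => simp only [map_add, mul_add, TensorProduct.tmul_add, hs, ht]
            | tmul s t => simp
      counit_comp := by
        have h := h1 (CoactBr.pt (AlgHom.id k B))
        rw [CoactBr.one_eq_pt, hpt] at h
        refine LinearMap.ext fun f => ?_
        have h' := AlgHom.congr_fun (CoactBr.pt_injective h) f
        simp only [AlgHom.comp_apply, AlgHom.id_apply] at h'
        simp only [LinearMap.comp_apply, AlgHom.toLinearMap_apply, LinearMap.flip_apply, TensorProduct.mk_apply]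
        refine Eq.trans ?_ (congrArg (fun t : B => t ⊗ₜ[k] (1 : k)) h')
        generalize ρ f = z
        induction z with
        | zero => simp
        | add p q hp hq => simp only [map_add, TensorProduct.add_tmul, hp, hq]
        | tmul p q =>
          simp only [LinearMap.lTensor_tmul, Algebra.TensorProduct.lift_tmul, AlgHom.comp_apply, AlgHom.id_apply,
            Bialgebra.counitAlgHom_apply, Algebra.ofId_apply]
          rw [← Algebra.commutes, ← Algebra.smul_def, TensorProduct.smul_tmul, smul_eq_mul, _root_.mul_one] }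
  haveI hc : GLin.IsCoactAlg k A B :=
    { coact_one := map_one ρ
      coact_mul := map_mul ρ }
  refine ⟨c, hc, ?_⟩
  show ((eX X).hom ⊗ₘ e.hom) ≫ rX a = CoactBr.ract k A B ≫ (eX X).hom
  haveI : Epi (univPair (k := k) B A) := IsIso.epi_of_iso _
  rw [← Iso.comp_inv_eq, Category.assoc, ← cancel_epi (univPair (k := k) B A)]
  show univPair (k := k) B A ≫ r = univPair (k := k) B A ≫ CoactBr.ract k A B
  rw [hρ, univPair, CoactBr.lift_pt_ract]
  congr 1
  refine AlgHom.ext fun f => ?_
  show ρ f = Algebra.TensorProduct.lift _ _ (fun _ _ => Commute.all _ _) (ρ f)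
  generalize ρ f = z
  induction z with
  | zero => simp
  | add p q hp hq => rw [map_add, ← hp, ← hq]
  | tmul p q => simp

variable [HopfRep.Comod k A Γ(X.left, ⊤)] [GLin.IsCoactAlg k A Γ(X.left, ⊤)]

/-- The universal pair of points of `X` and of `G`. -/
def univXG : CoactBr.sp k (Γ(X.left, ⊤) ⊗[k] A) ⟶ X ⊗ G :=
  lift (CoactBr.pt Algebra.TensorProduct.includeLeft ≫ (eX X).hom)
    (CoactBr.pt Algebra.TensorProduct.includeRight ≫ e.hom)

instance isIso_univXG : IsIso (univXG (X := X) e) := by
  rw [univXG, ← lift_map]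
  exact inferInstanceAs (IsIso (univPair (k := k) Γ(X.left, ⊤) A ≫ _))

variable {e a} in
theorem univXG_rX (hco : IsCoord e a) :
    univXG (X := X) e ≫ rX a = CoactBr.pt (GLin.coactAlgHom k A Γ(X.left, ⊤)) ≫ (eX X).hom := by
  rw [univXG, ← lift_map, Category.assoc, hco, ← Category.assoc, CoactBr.lift_pt_ract]
  congr 2
  refine AlgHom.ext fun f => ?_
  show Algebra.TensorProduct.lift _ _ (fun _ _ => Commute.all _ _) (GLin.coactAlgHom k A Γ(X.left, ⊤) f) =
    GLin.coactAlgHom k A Γ(X.left, ⊤) f
  generalize GLin.coactAlgHom k A Γ(X.left, ⊤) f = z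
  induction z with
  | zero => simp
  | add p q hp hq => rw [map_add, hp, hq]
  | tmul p q => simp

theorem univXG_fst : univXG (X := X) e ≫ fst X G =
    CoactBr.pt (Algebra.TensorProduct.includeLeft : Γ(X.left, ⊤) →ₐ[k] Γ(X.left, ⊤) ⊗[k] A) ≫ (eX X).hom :=
  lift_fst _ _

/-- The invariant functions are the invariants of the coaction. -/
theorem mem_invariants_iff_appTop (hco : IsCoord e a) (f : Γ(X.left, ⊤)) :
    a.act.left.appTop f = (snd G X).left.appTop f ↔ f ∈ GLin.invariants k A Γ(X.left, ⊤) := by
  let q : CoactBr.sp k (Γ(X.left, ⊤) ⊗[k] A) ⟶ G ⊗ X := univXG (X := X) e ≫ shear.hom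
  haveI : IsIso q.left := inferInstanceAs (IsIso ((Over.forget _).map q))
  have h1 : ((Scheme.ΓSpecIso (CommRingCat.of (Γ(X.left, ⊤) ⊗[k] A))).inv)
      (GLin.coactAlgHom k A Γ(X.left, ⊤) f) = q.left.appTop (a.act.left.appTop f) := by
    rw [← appTop_pt X, ← univXG_rX hco, ← CommRingCat.comp_apply, ← Scheme.Hom.comp_appTop, ← Over.comp_left]
    rfl
  have h2 : ((Scheme.ΓSpecIso (CommRingCat.of (Γ(X.left, ⊤) ⊗[k] A))).inv)
      (f ⊗ₜ[k] (1 : A)) = q.left.appTop ((snd G X).left.appTop f) := by
    rw [← CommRingCat.comp_apply, ← Scheme.Hom.comp_appTop, ← Over.comp_left, Category.assoc, shear_snd,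
      univXG_fst, appTop_pt X]
    rfl
  rw [GLin.mem_invariants_iff, ← GLin.coactAlgHom_apply]
  constructor
  · intro h
    exact (ConcreteCategory.bijective_of_isIso (Scheme.ΓSpecIso _).inv).injective
      (h1.trans ((congrArg _ h).trans h2.symm))
  · intro h
    exact (ConcreteCategory.bijective_of_isIso q.left.appTop).injective
      (h1.symm.trans ((congrArg _ h).trans h2))

end Coord

section Map

variable {A : Type u} [CommRing A] [HopfAlgebra k A]
variable {G X X' : Over (Spec (CommRingCat.of k))} [GrpObj G] {e : CoactBr.sp k A ≅ G} [IsMonHom e.hom]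
  [IsAffine X.left] [IsAffine X'.left]

/-- The map of functions of a morphism over `k`. -/
def coordMap (p : X' ⟶ X) : Γ(X.left, ⊤) →ₐ[k] Γ(X'.left, ⊤) :=
  { p.left.appTop.hom with
    commutes' := fun c => by
      show p.left.appTop (X.hom.appTop _) = X'.hom.appTop _
      rw [← CommRingCat.comp_apply, ← Scheme.Hom.comp_appTop, Over.w p] }

theorem coordMap_apply (p : X' ⟶ X) (f : Γ(X.left, ⊤)) : coordMap p f = p.left.appTop f := rfl

theorem pt_coordMap (p : X' ⟶ X) : CoactBr.pt (coordMap p) ≫ (eX X).hom = (eX X').hom ≫ p :=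
  Over.OverMorphism.ext (Scheme.isoSpec_inv_naturality p.left)

variable {a : AlgGrp.Action G X} {a' : AlgGrp.Action G X'}
variable [HopfRep.Comod k A Γ(X.left, ⊤)] [GLin.IsCoactAlg k A Γ(X.left, ⊤)]
variable [HopfRep.Comod k A Γ(X'.left, ⊤)] [GLin.IsCoactAlg k A Γ(X'.left, ⊤)]

/-- Equivariant maps give comodule maps. -/
theorem isComodHom_coordMap (hco : IsCoord e a) (hco' : IsCoord e a') {p : X' ⟶ X}
    (hp : a'.act ≫ p = (G ◁ p) ≫ a.act) : Hoch.IsComodHom A (coordMap p).toLinearMap := by
  have hr : rX a' ≫ p = (p ▷ G) ≫ rX a := by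
    rw [rX, Category.assoc, hp, ← Category.assoc, lift_whiskerLeft, rX, ← Category.assoc, comp_lift,
      whiskerRight_fst, whiskerRight_snd_assoc]
  have h : CoactBr.pt ((GLin.coactAlgHom k A Γ(X'.left, ⊤)).comp (coordMap p)) ≫ (eX X).hom =
      CoactBr.pt ((Algebra.TensorProduct.map (coordMap p) (AlgHom.id k A)).comp
        (GLin.coactAlgHom k A Γ(X.left, ⊤))) ≫ (eX X).hom := by
    rw [CoactBr.pt_comp, Category.assoc, pt_coordMap, ← Category.assoc, ← univXG_rX hco', Category.assoc, hr,
      univXG, lift_whiskerRight_assoc, Category.assoc, ← pt_coordMap, ← Category.assoc,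
      ← CoactBr.pt_comp, ← lift_map, Category.assoc, hco, ← Category.assoc, CoactBr.lift_pt_ract]
    congr 3
    exact Algebra.TensorProduct.ext' fun b c => by simp
  rw [cancel_mono] at h
  refine LinearMap.ext fun f => ?_
  have h' := AlgHom.congr_fun (CoactBr.pt_injective h) f
  simp only [AlgHom.comp_apply, GLin.coactAlgHom_apply] at h'
  simp only [LinearMap.comp_apply, AlgHom.toLinearMap_apply]
  refine h'.trans ?_
  generalize HopfRep.Comod.coact (k := k) (A := A) f = z
  induction z with
  | zero => simp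
  | add p q hp hq => simp only [map_add, hp, hq]
  | tmul p q => simp

end Map

end Groth.Agent.RedQuot
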