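import Groth.Agent.RedQuotLib.Geom
import Mathlib.AlgebraicGeometry.AlgClosed.Basic

/-!
# Closed orbits and quotients by a normal subgroup
-/

set_option autoImplicit false
set_option backward.isDefEq.respectTransparency false
set_option backward.isDefEq.respectTransparency.types false

noncomputable section

universe u

open CategoryTheory MonoidalCategory CartesianMonoidalCategory MonObj AlgebraicGeometry Topology
open CategoryTheory.Limits (pullback)

namespace Groth.Agent.RedQuot

attribute [-instance] CategoryTheory.Hom.commGroup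

variable {k : Type u} [Field k]

/-- A point with values in an algebraically closed field lifts along a surjection of finite type. -/
theorem exists_lift_point {X Y : Over (Spec (CommRingCat.of k))} (π : X ⟶ Y) [Surjective π.left]
    [LocallyOfFiniteType π.left] (Ω : Type u) [Field Ω] [IsAlgClosed Ω] (T : Over (Spec (CommRingCat.of k)))
    (e : T.left ≅ Spec (CommRingCat.of Ω)) (y : T ⟶ Y) : ∃ x : T ⟶ X, x ≫ π = y := by
  let g : Spec (CommRingCat.of Ω) ⟶ Y.left := e.inv ≫ y.left
  let P := pullback π.left g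
  let f : P ⟶ Spec (CommRingCat.of Ω) := Limits.pullback.snd π.left g
  haveI : LocallyOfFiniteType f := MorphismProperty.pullback_snd _ _ inferInstance
  haveI : Surjective f := MorphismProperty.pullback_snd _ _ inferInstance
  haveI : Nonempty P := ⟨(f.surjective (IsLocalRing.closedPoint Ω)).choose⟩
  haveI : JacobsonSpace ↥P := LocallyOfFiniteType.jacobsonSpace f
  obtain ⟨x, -, hx⟩ := nonempty_inter_closedPoints (Z := (Set.univ : Set ↥P)) Set.univ_nonempty
    isClosed_univ.isLocallyClosed
  let p := pointOfClosedPoint f x hx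
  have hp : p ≫ f = 𝟙 _ := pointOfClosedPoint_comp f x hx
  have h : e.hom ≫ p ≫ Limits.pullback.fst π.left g ≫ π.left = y.left := by
    rw [Limits.pullback.condition, reassoc_of% hp]
    simp [g]
  exact ⟨Over.homMk (e.hom ≫ p ≫ Limits.pullback.fst π.left g) (by
    rw [← Over.w π, ← Over.w y, ← h]; simp), Over.OverMorphism.ext (by simpa using h)⟩

variable {H N Q X Y : Over (Spec (CommRingCat.of k))} [GrpObj H] [GrpObj N] [GrpObj Q]

/-- Orbits upstairs are the preimages of the orbits downstairs. -/
theorem isClosed_orbit_iff (i : N ⟶ H) (q : H ⟶ Q) [Surjective q.left] (a : AlgGrp.Action H X)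
    (aN : AlgGrp.Action N X) (haN : aN.act = (i ▷ X) ≫ a.act) (π : X ⟶ Y) (hπ : GIT.IsGeomQuot aN π)
    (aQ : AlgGrp.Action Q Y) (hequiv : (q ⊗ₘ π) ≫ aQ.act = a.act ≫ π)
    {T : Over (Spec (CommRingCat.of k))} (x : T ⟶ X) :
    IsClosed (Set.range (GIT.psi aQ (x ≫ π)).left.base) ↔ IsClosed (Set.range (GIT.psi a x).left.base) := by
  have sq := isPullback_whiskerRight π T
  have sqL : IsPullback (fst X T).left (π ▷ T).left π.left (fst Y T).left := sq.map (Over.forget _)
  have hqm : IsQuotientMap (π ▷ T).left.base := hπ.subm _ _ _ sqL.flip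
  obtain ⟨aN', haN', hiN'⟩ := GitQuot.exists_action aN hπ.inv sq
  obtain ⟨a', ha', hi'⟩ := GitQuot.exists_action a (φ := toUnit X) (toUnit_unique _ _)
    (isPullback_whiskerRight (toUnit X) T)
  have hs' : a'.act ≫ snd X T = snd H (X ⊗ T) ≫ snd X T := by
    have h := congrArg (· ≫ snd (𝟙_ _) T) hi'
    simpa using h
  have hNH : aN'.act = (i ▷ (X ⊗ T)) ≫ a'.act := by
    apply CartesianMonoidalCategory.hom_ext
    · rw [haN', Category.assoc, ha', haN, whisker_exchange_assoc]
    · have h := congrArg (· ≫ snd Y T) hiN'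
      simp only [Category.assoc, whiskerRight_snd] at h
      rw [h, Category.assoc, hs', whiskerRight_snd_assoc]
  have hψ : GIT.psi a x ≫ (π ▷ T) = (q ▷ T) ≫ GIT.psi aQ (x ≫ π) := by
    apply CartesianMonoidalCategory.hom_ext
    · simp only [GIT.psi, Category.assoc, whiskerRight_fst, lift_fst, lift_fst_assoc]
      rw [← hequiv, ← Category.assoc, ← Category.assoc (q ▷ T)]
      congr 1
      apply CartesianMonoidalCategory.hom_ext <;> simp
    · simp [GIT.psi]
  haveI : Surjective (q ▷ T).left := MorphismProperty.of_isPullback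
    (show IsPullback (fst H T).left (q ▷ T).left q.left (fst Q T).left from
      (isPullback_whiskerRight q T).map (Over.forget _)) ‹Surjective q.left›
  have himg : (π ▷ T).left.base '' Set.range (GIT.psi a x).left.base =
      Set.range (GIT.psi aQ (x ≫ π)).left.base := by
    rw [← Set.range_comp]
    have : ((π ▷ T).left.base : _ → _) ∘ (GIT.psi a x).left.base =
        (GIT.psi aQ (x ≫ π)).left.base ∘ (q ▷ T).left.base := funext fun z => by
      have h := congrArg (fun m : (H ⊗ T) ⟶ (Y ⊗ T) => m.left z) hψ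
      simp only [Over.comp_left, Scheme.Hom.comp_apply] at h
      exact h
    rw [this]
    exact (q ▷ T).left.surjective.range_comp _
  have hpre : (π ▷ T).left.base ⁻¹' Set.range (GIT.psi aQ (x ≫ π)).left.base =
      Set.range (GIT.psi a x).left.base := by
    rw [← himg]
    refine Set.Subset.antisymm ?_ (Set.subset_preimage_image _ _)
    rintro x' ⟨o, ho, hox⟩
    obtain ⟨w, hw₁, hw₂⟩ := Scheme.Pullback.exists_preimage_pullback (f := (π ▷ T).left) (g := (π ▷ T).left) x' o
      hox.symm
    obtain ⟨z, hz⟩ := GitQuot.surjective_psiY_baseChange aN π hπ.inv hπ.orbit sq aN' haN' hiN' w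
    change GIT.PsiY aN' (π ▷ T) hiN' z = w at hz
    rw [← hz, ← Scheme.Hom.comp_apply, GIT.PsiY, Limits.pullback.lift_fst] at hw₁
    rw [← hz, ← Scheme.Hom.comp_apply, GIT.PsiY, Limits.pullback.lift_snd] at hw₂
    rw [hNH, Over.comp_left, Scheme.Hom.comp_apply] at hw₁
    rw [← hw₁]
    refine invariant_range_psi a x a' ha' hs' ⟨(i ▷ (X ⊗ T)).left z, ?_, rfl⟩
    rw [Set.mem_preimage]
    rw [← Scheme.Hom.comp_apply, ← Over.comp_left, whiskerRight_snd, hw₂]
    exact ho
  rw [← hqm.isClosed_preimage, hpre]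

/-- The quotient action is closed exactly when the action is. -/
theorem isClosedAction_iff (i : N ⟶ H) (q : H ⟶ Q) [Surjective q.left] (a : AlgGrp.Action H X)
    (aN : AlgGrp.Action N X) (haN : aN.act = (i ▷ X) ≫ a.act) (π : X ⟶ Y) (hπ : GIT.IsGeomQuot aN π)
    [LocallyOfFiniteType X.hom]
    (aQ : AlgGrp.Action Q Y) (hequiv : (q ⊗ₘ π) ≫ aQ.act = a.act ≫ π) :
    GIT.IsClosedAction aQ ↔ GIT.IsClosedAction a := by
  haveI : Surjective π.left := ⟨hπ.surj⟩
  haveI : LocallyOfFiniteType π.left := by
    haveI : LocallyOfFiniteType (π.left ≫ Y.hom) := by rw [Over.w π]; infer_instance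
    exact locallyOfFiniteType_of_comp π.left Y.hom
  constructor
  · intro h Ω _ _ T e x
    exact (isClosed_orbit_iff i q a aN haN π hπ aQ hequiv x).1 (h Ω T e (x ≫ π))
  · intro h Ω _ _ T e y
    obtain ⟨x, rfl⟩ := exists_lift_point π Ω T e y
    exact (isClosed_orbit_iff i q a aN haN π hπ aQ hequiv x).2 (h Ω T e x)

end Groth.Agent.RedQuot
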