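import Groth.Agent.RedQuotLib.Coord
import Groth.Agent.Comodule.Tame
import Groth.Agent.Comodule.Reductive
import Groth.Agent.Comodule.InvFinite

/-!
# Closed invariant sets and invariant functions on affine schemes
-/

set_option autoImplicit false
set_option backward.isDefEq.respectTransparency false
set_option backward.isDefEq.respectTransparency.types false

noncomputable section

universe u w

open CategoryTheory MonoidalCategory CartesianMonoidalCategory MonObj AlgebraicGeometry
open scoped TensorProduct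

namespace Groth.Agent.RedQuot

section Alg

variable {k : Type u} [Field k] {A : Type u} [CommRing A] [HopfAlgebra k A]
variable {B : Type u} [CommRing B] [Algebra k B] [HopfRep.Comod k A B] [GLin.IsCoactAlg k A B]

/-- Sums of invariant ideals are invariant. -/
theorem isSubcomod_iSup {J : Type w} (I : J → Ideal B)
    (h : ∀ j, HopfRep.IsSubcomod (k := k) (A := A) ((I j).restrictScalars k)) :
    HopfRep.IsSubcomod (k := k) (A := A) ((⨆ j, I j).restrictScalars k) := by
  intro v hv
  rw [Submodule.restrictScalars_mem] at hv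
  induction hv using Submodule.iSup_induction' with
  | mem j x hx =>
    obtain ⟨z, hz⟩ := h j x hx
    let l : (I j).restrictScalars k →ₗ[k] (⨆ i, I i).restrictScalars k :=
      Submodule.inclusion fun y (hy : y ∈ I j) => Submodule.mem_iSup_of_mem j hy
    refine ⟨l.rTensor A z, ?_⟩
    rw [← LinearMap.rTensor_comp_apply, ← hz]
    rfl
  | zero => exact ⟨0, by rw [map_zero, map_zero]⟩
  | add x y _ _ hx hy => rw [map_add]; exact add_mem hx hy

/-- Contraction to the invariants commutes with sums of invariant ideals. -/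
theorem comap_iSup_invariants {α : A →ₗ[k] B} (hα : Hoch.IsComodHom A α) (h1 : α 1 = 1) {J : Type w}
    (I : J → Ideal B) (h : ∀ j, HopfRep.IsSubcomod (k := k) (A := A) ((I j).restrictScalars k)) :
    (⨆ j, I j).comap (algebraMap (GLin.invariants k A B) B) =
      ⨆ j, (I j).comap (algebraMap (GLin.invariants k A B) B) := by
  refine le_antisymm (fun x hx => ?_) (iSup_le fun j => Ideal.comap_mono (le_iSup I j))
  have key : ∀ y ∈ ⨆ j, I j, Comodule.reynoldsInv k A B α hα y ∈
      ⨆ j, (I j).comap (algebraMap (GLin.invariants k A B) B) := by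
    intro y hy
    induction hy using Submodule.iSup_induction' with
    | mem j z hz => exact Submodule.mem_iSup_of_mem j (Comodule.reynoldsInv_mem α hα (I j) (h j) hz)
    | zero => rw [map_zero]; exact Submodule.zero_mem _
    | add y z _ _ hy hz => rw [map_add]; exact Submodule.add_mem _ hy hz
  exact Comodule.reynoldsInv_coe α hα h1 x ▸ key _ (Ideal.mem_comap.1 hx)

end Alg

variable {k : Type u} [Field k]

attribute [local instance] coordAlg

/-- The points of an affine scheme. -/
def Φ (X : Over (Spec (CommRingCat.of k))) [IsAffine X.left] :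
    ↥X.left ≃ₜ PrimeSpectrum Γ(X.left, ⊤) :=
  Scheme.homeoOfIso X.left.isoSpec

variable {A : Type u} [CommRing A] [HopfAlgebra k A]
variable {G X : Over (Spec (CommRingCat.of k))} [GrpObj G] (e : CoactBr.sp k A ≅ G) [IsMonHom e.hom]
  [IsAffine X.left] (a : AlgGrp.Action G X)
  [HopfRep.Comod k A Γ(X.left, ⊤)] [GLin.IsCoactAlg k A Γ(X.left, ⊤)]

/-- A closed invariant set is cut out by an invariant ideal. -/
theorem exists_subcomod_ideal (hco : IsCoord e a) (W : Set X.left) (hW : IsClosed W)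
    (hi : a.act.left.base '' ((snd G X).left.base ⁻¹' W) ⊆ W) :
    ∃ I : Ideal Γ(X.left, ⊤), HopfRep.IsSubcomod (k := k) (A := A) (I.restrictScalars k) ∧
      W = Φ X ⁻¹' PrimeSpectrum.zeroLocus (I : Set Γ(X.left, ⊤)) := by
  let B : Type u := Γ(X.left, ⊤)
  let WB : Set (PrimeSpectrum B) := (Φ X).symm ⁻¹' W
  have hWB : IsClosed WB := hW.preimage (Φ X).symm.continuous
  let J : Ideal B := PrimeSpectrum.vanishingIdeal WB
  have hJ : PrimeSpectrum.zeroLocus (J : Set B) = WB := by
    rw [PrimeSpectrum.zeroLocus_vanishingIdeal_eq_closure, hWB.closure_eq]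
  let mk : B →ₐ[k] B ⧸ J := Ideal.Quotient.mkₐ k J
  let mA : B ⊗[k] A →ₐ[k] (B ⧸ J) ⊗[k] A := Algebra.TensorProduct.map mk (AlgHom.id k A)
  let ψ : B →ₐ[k] (B ⧸ J) ⊗[k] A := mA.comp (GLin.coactAlgHom k A B)
  let I : Ideal B := RingHom.ker ψ.toRingHom
  have hψ : ψ.toLinearMap = mk.toLinearMap.rTensor A ∘ₗ HopfRep.Comod.coact (k := k) (A := A) := rfl
  -- coassociativity
  have hsub : HopfRep.IsSubcomod (k := k) (A := A) (I.restrictScalars k) := by
    intro f hf
    have hex : Function.Exact (I.restrictScalars k).subtype ψ.toLinearMap := by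
      intro x
      exact ⟨fun hx => ⟨⟨x, hx⟩, rfl⟩, by rintro ⟨y, rfl⟩; exact y.2⟩
    refine (Module.Flat.rTensor_exact A hex _).1 ?_
    rw [hψ, LinearMap.rTensor_comp_apply]
    have hc := LinearMap.congr_fun (HopfRep.Comod.coassoc (k := k) (A := A) (V := B)) f
    simp only [LinearMap.comp_apply, LinearEquiv.coe_coe] at hc
    rw [← LinearEquiv.eq_symm_apply] at hc
    rw [hc]
    have key : ∀ z : B ⊗[k] A,
        (mk.toLinearMap.rTensor A).rTensor A ((TensorProduct.assoc k B A A).symm
          ((Coalgebra.comul (R := k) (A := A)).lTensor B z)) =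
        (TensorProduct.assoc k (B ⧸ J) A A).symm
          ((Coalgebra.comul (R := k) (A := A)).lTensor (B ⧸ J) (mk.toLinearMap.rTensor A z)) := by
      intro z
      induction z with
      | zero => simp
      | add p q hp hq => simp only [map_add, hp, hq]
      | tmul p q =>
        simp only [LinearMap.lTensor_tmul, LinearMap.rTensor_tmul]
        generalize Coalgebra.comul (R := k) q = y
        induction y with
        | zero => simp
        | add s t hs ht => simp only [TensorProduct.tmul_add, map_add, hs, ht]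
        | tmul s t => simp
    rw [key]
    have h0 : mk.toLinearMap.rTensor A (HopfRep.Comod.coact (k := k) (A := A) f) = 0 := hf
    rw [h0, map_zero, map_zero]
  have hIJ : I ≤ J := by
    intro f hf
    have h0 : mk.toLinearMap.rTensor A (HopfRep.Comod.coact (k := k) (A := A) f) = 0 := hf
    have hc := LinearMap.congr_fun (HopfRep.Comod.counit_comp (k := k) (A := A) (V := B)) f
    simp only [LinearMap.comp_apply, LinearMap.flip_apply, TensorProduct.mk_apply] at hc
    have h1 := congrArg (mk.toLinearMap.rTensor k) hc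
    rw [← LinearMap.comp_apply (mk.toLinearMap.rTensor k), LinearMap.rTensor_comp_lTensor,
      ← LinearMap.lTensor_comp_rTensor, LinearMap.comp_apply, h0, map_zero, LinearMap.rTensor_tmul] at h1
    have h2 := congrArg (TensorProduct.rid k (B ⧸ J)) h1
    rw [map_zero, TensorProduct.rid_tmul, one_smul] at h2
    exact Ideal.Quotient.eq_zero_iff_mem.1 h2.symm
  refine ⟨I, hsub, ?_⟩
  suffices h : PrimeSpectrum.zeroLocus (I : Set B) = WB by
    rw [h]
    ext x
    simp [WB]
  refine le_antisymm ?_ (hJ ▸ PrimeSpectrum.zeroLocus_anti_mono hIJ)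
  rw [show (I : Set B) = (RingHom.ker ψ.toRingHom : Set B) from rfl, ← PrimeSpectrum.closure_range_comap]
  refine hWB.closure_subset_iff.2 ?_
  rintro _ ⟨z, rfl⟩
  let z' : PrimeSpectrum (B ⊗[k] A) := PrimeSpectrum.comap mA.toRingHom z
  have hL : PrimeSpectrum.comap (Algebra.TensorProduct.includeLeft : B →ₐ[k] B ⊗[k] A).toRingHom z' ∈ WB := by
    rw [← hJ]
    intro f hf
    show mA ((Algebra.TensorProduct.includeLeft : B →ₐ[k] B ⊗[k] A) f) ∈ z.asIdeal
    have : mk f = 0 := Ideal.Quotient.eq_zero_iff_mem.2 hf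
    simp [mA, this]
  let zz : ↥(Spec (CommRingCat.of (B ⊗[k] A))) := z'
  let q : CoactBr.sp k (B ⊗[k] A) ⟶ G ⊗ X := univXG (X := X) e ≫ shear.hom
  have h2 : (snd G X).left (q.left zz) ∈ W := by
    have hq : q ≫ snd G X =
        CoactBr.pt (Algebra.TensorProduct.includeLeft : B →ₐ[k] B ⊗[k] A) ≫ (eX X).hom := by
      rw [Category.assoc, shear_snd, univXG_fst]
    rw [← Scheme.Hom.comp_apply, ← Over.comp_left, hq, Over.comp_left, Scheme.Hom.comp_apply]
    exact hL
  have h3 : a.act.left (q.left zz) ∈ W := hi ⟨_, h2, rfl⟩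
  have hq : q ≫ a.act = CoactBr.pt (GLin.coactAlgHom k A B) ≫ (eX X).hom := by
    rw [← univXG_rX hco, Category.assoc]
    rfl
  rw [← Scheme.Hom.comp_apply, ← Over.comp_left, hq, Over.comp_left, Scheme.Hom.comp_apply] at h3
  exact h3

section Quot

variable {Y : Over (Spec (CommRingCat.of k))} [IsAffine Y.left] (φ : X ⟶ Y)
  (hinj : Function.Injective φ.left.appTop)
  (hrange : Set.range φ.left.appTop = {f : Γ(X.left, ⊤) | a.act.left.appTop f = (snd G X).left.appTop f})

include hinj hrange in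
theorem exists_homeo (hco : IsCoord e a) :
    ∃ h : ↥Y.left ≃ₜ PrimeSpectrum (GLin.invariants k A Γ(X.left, ⊤)),
      ∀ x, h (φ.left x) = PrimeSpectrum.comap (algebraMap (GLin.invariants k A Γ(X.left, ⊤)) Γ(X.left, ⊤)) (Φ X x) := by
  let C := GLin.invariants k A Γ(X.left, ⊤)
  have hmem : ∀ c, φ.left.appTop.hom c ∈ C.toSubring := fun c =>
    (mem_invariants_iff_appTop e a hco _).1 ((Set.ext_iff.1 hrange _).1 ⟨c, rfl⟩)
  let f : Γ(Y.left, ⊤) →+* C := φ.left.appTop.hom.codRestrict C.toSubring hmem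
  have hf : Function.Bijective f := by
    refine ⟨fun x y hxy => hinj (congrArg Subtype.val hxy), fun c => ?_⟩
    obtain ⟨y, hy⟩ := (Set.ext_iff.1 hrange _).2 ((mem_invariants_iff_appTop e a hco _).2 c.2)
    exact ⟨y, Subtype.ext hy⟩
  let ee : Γ(Y.left, ⊤) ≃+* C := RingEquiv.ofBijective f hf
  refine ⟨(Φ Y).trans (PrimeSpectrum.homeomorphOfRingEquiv ee), fun x => ?_⟩
  apply (PrimeSpectrum.homeomorphOfRingEquiv ee).symm.injective
  rw [Homeomorph.trans_apply, Homeomorph.symm_apply_apply]
  show Φ Y (φ.left x) = PrimeSpectrum.comap ee.toRingHom (PrimeSpectrum.comap (algebraMap C Γ(X.left, ⊤)) (Φ X x))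
  rw [← PrimeSpectrum.comap_comp_apply]
  have hh : (algebraMap C Γ(X.left, ⊤)).comp ee.toRingHom = φ.left.appTop.hom := rfl
  rw [hh]
  exact congrArg (fun m : X.left ⟶ Spec Γ(Y.left, ⊤) => m x) (Scheme.isoSpec_hom_naturality φ.left).symm

include hinj hrange in
/-- Images of closed invariant sets are closed, and commute with intersections. -/
theorem closed_images (hA : HopfRep.IsLinearlyReductive k A) (hco : IsCoord e a) :
    (∀ W : Set X.left, IsClosed W → a.act.left.base '' ((snd G X).left.base ⁻¹' W) ⊆ W →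
      IsClosed (φ.left.base '' W)) ∧
    ∀ (J : Type u) (W : J → Set X.left),
      (∀ i, IsClosed (W i) ∧ a.act.left.base '' ((snd G X).left.base ⁻¹' W i) ⊆ W i) →
      φ.left.base '' (⋂ i, W i) = ⋂ i, φ.left.base '' W i := by
  obtain ⟨h, hh⟩ := exists_homeo e a φ hinj hrange hco
  obtain ⟨α, hα, h1⟩ := Comodule.InvFinite.exists_total Γ(X.left, ⊤) hA
  let C := GLin.invariants k A Γ(X.left, ⊤)
  have key : ∀ I : Ideal Γ(X.left, ⊤), HopfRep.IsSubcomod (k := k) (A := A) (I.restrictScalars k) →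
      φ.left.base '' (Φ X ⁻¹' PrimeSpectrum.zeroLocus (I : Set Γ(X.left, ⊤))) =
        h ⁻¹' PrimeSpectrum.zeroLocus ((I.comap (algebraMap C Γ(X.left, ⊤)) : Ideal C) : Set C) := by
    intro I hI
    rw [← Comodule.image_zeroLocus α hα h1 I hI]
    ext y
    constructor
    · rintro ⟨x, hx, rfl⟩
      exact ⟨Φ X x, hx, (hh x).symm⟩
    · rintro ⟨p, hp, hpy⟩
      refine ⟨(Φ X).symm p, by simpa using hp, h.injective ?_⟩
      change h (φ.left ((Φ X).symm p)) = h y
      rw [hh, Homeomorph.apply_symm_apply, hpy]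
  refine ⟨fun W hW hi => ?_, fun J W hW => ?_⟩
  · obtain ⟨I, hI, rfl⟩ := exists_subcomod_ideal e a hco W hW hi
    rw [key I hI]
    exact (PrimeSpectrum.isClosed_zeroLocus _).preimage h.continuous
  · choose I hI hWI using fun i => exists_subcomod_ideal e a hco (W i) (hW i).1 (hW i).2
    simp only [hWI, ← Set.preimage_iInter, ← PrimeSpectrum.zeroLocus_iSup, fun i => key (I i) (hI i)]
    rw [key _ (isSubcomod_iSup I hI), comap_iSup_invariants hα h1 I hI]

end Quot

/-- Disjoint closed invariant sets are separated by an invariant function. -/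
theorem exists_separating (hA : HopfRep.IsLinearlyReductive k A) (hco : IsCoord e a) (W₁ W₂ : Set X.left)
    (h₁ : IsClosed W₁) (h₂ : IsClosed W₂) (hi₁ : a.act.left.base '' ((snd G X).left.base ⁻¹' W₁) ⊆ W₁)
    (hi₂ : a.act.left.base '' ((snd G X).left.base ⁻¹' W₂) ⊆ W₂) (hd : Disjoint W₁ W₂) :
    ∃ f : Γ(X.left, ⊤), a.act.left.appTop f = (snd G X).left.appTop f ∧
      W₁ ⊆ X.left.zeroLocus (U := ⊤) {f} ∧ W₂ ⊆ X.left.zeroLocus (U := ⊤) {1 - f} := by
  obtain ⟨α, hα, h1⟩ := Comodule.InvFinite.exists_total Γ(X.left, ⊤) hA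
  let C := GLin.invariants k A Γ(X.left, ⊤)
  obtain ⟨I₁, hI₁, rfl⟩ := exists_subcomod_ideal e a hco W₁ h₁ hi₁
  obtain ⟨I₂, hI₂, rfl⟩ := exists_subcomod_ideal e a hco W₂ h₂ hi₂
  have htop : I₁ ⊔ I₂ = ⊤ := by
    rw [← PrimeSpectrum.zeroLocus_empty_iff_eq_top, PrimeSpectrum.zeroLocus_sup, Set.eq_empty_iff_forall_notMem]
    rintro p ⟨hp₁, hp₂⟩
    refine Set.disjoint_left.mp hd (show (Φ X).symm p ∈ Φ X ⁻¹' PrimeSpectrum.zeroLocus (I₁ : Set _) from ?_) ?_
    · simpa using hp₁
    · simpa using hp₂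
  obtain ⟨y, hy, z, hz, hyz⟩ := Submodule.mem_sup.1 (htop.ge (Submodule.mem_top (x := (1 : Γ(X.left, ⊤)))))
  let R := Comodule.reynoldsInv k A Γ(X.left, ⊤) α hα
  have hR : R y + R z = 1 := by
    rw [← map_add, hyz]
    exact Comodule.reynoldsInv_coe α hα h1 1
  refine ⟨R y, (mem_invariants_iff_appTop e a hco _).2 (R y).2, ?_, ?_⟩
  all_goals rw [← Scheme.toSpecΓ_preimage_zeroLocus]
  · intro x hx
    exact Set.singleton_subset_iff.2 (hx (Comodule.reynoldsInv_mem α hα I₁ hI₁ hy))
  · intro x hx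
    refine Set.singleton_subset_iff.2 (hx ?_)
    rw [show (1 : Γ(X.left, ⊤)) - (R y : Γ(X.left, ⊤)) = (R z : Γ(X.left, ⊤)) by
      rw [sub_eq_iff_eq_add', ← Subalgebra.coe_add, hR]; rfl]
    exact Comodule.reynoldsInv_mem α hα I₂ hI₂ hz

end Groth.Agent.RedQuot
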